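import Cfsg.Agent.H853.ThC.Gen

/-!
# The irreducible character of degree 767637 of Thompson's group from its facts
-/

set_option autoImplicit false

open scoped ComplexConjugate
open Cfsg

namespace Cfsg.Agent.H853.ThC

universe u

open Cfsg.Agent.Characters

section norm

variable {G : Type u} [Group G] {β : G → ℂ}

open Classical in
/-- The squares of the absolute values. -/
noncomputable def wt (β : G → ℂ) (g : G) : ℤ :=
  if orderOf g = 31 then 8 else fval β g ^ 2

open Classical in
/-- The indicator function of a property. -/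
noncomputable def ind (P : G → Prop) (g : G) : ℤ := if P g then 1 else 0

omit [Group G] in
theorem sum_ind [Fintype G] (P : G → Prop) : ∑ g : G, ind P g = (Nat.card {g : G // P g} : ℤ) := by
  classical
  unfold ind
  rw [Finset.sum_boole, Nat.card_eq_fintype_card, Fintype.card_subtype]

theorem wt_le (β : G → ℂ) (g : G) : wt β g ≤ 589266563769 * ind (fun x => orderOf x = 1) g +
    164025 * ind (fun x => orderOf x = 2) g +
    720 * ind (fun x => orderOf x = 4 ∧ β x = 8) g +
    9 * ind (fun x => orderOf x = 4 ∨ orderOf x = 8) g +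
    144 * ind (fun x => orderOf x = 5) g + 9 * ind (fun x => orderOf x = 7) g +
    ind (fun x => orderOf x = 14) g + ind (fun x => orderOf x = 19) g +
    4 * ind (fun x => orderOf x = 20) g + ind (fun x => orderOf x = 28) g +
    8 * ind (fun x => orderOf x = 31) g := by
  classical
  unfold wt ind fval
  beta_reduce
  by_cases h3 : 3 ∣ orderOf g
  · have h31 : orderOf g ≠ 31 := by rintro h; rw [h] at h3; norm_num at h3
    rw [if_neg h31, if_pos h3]
    split_ifs <;> norm_num
  · simp only [if_neg h3]
    by_cases h1 : orderOf g = 1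
    · simp [h1]
    by_cases h2 : orderOf g = 2
    · simp [h2]
    by_cases h4 : orderOf g = 4
    · by_cases h8 : β g = 8 <;> simp [h4, h8]
    by_cases h8 : orderOf g = 8
    · simp [h8]
    by_cases h5 : orderOf g = 5
    · simp [h5]
    by_cases h7 : orderOf g = 7
    · simp [h7]
    by_cases h14 : orderOf g = 14
    · simp [h14]
    by_cases h19 : orderOf g = 19
    · simp [h19]
    by_cases h20 : orderOf g = 20
    · simp [h20]
    by_cases h28 : orderOf g = 28
    · simp [h28]
    by_cases h31 : orderOf g = 31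
    · simp [h31]
    simp [h1, h2, h4, h8, h5, h7, h14, h19, h20, h28, h31]

end norm

variable {G : Type u} [Group G] [Finite G] {β : G → ℂ} (h : ThFacts G β)
include h

theorem sum_wt [Fintype G] : ∑ g : G, wt β g < 2 * (Nat.card G : ℤ) := by
  have h1 : ∑ g : G, wt β g ≤ ∑ g : G, (589266563769 * ind (fun x => orderOf x = 1) g +
    164025 * ind (fun x => orderOf x = 2) g +
    720 * ind (fun x => orderOf x = 4 ∧ β x = 8) g +
    9 * ind (fun x => orderOf x = 4 ∨ orderOf x = 8) g +
    144 * ind (fun x => orderOf x = 5) g + 9 * ind (fun x => orderOf x = 7) g +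
    ind (fun x => orderOf x = 14) g + ind (fun x => orderOf x = 19) g +
    4 * ind (fun x => orderOf x = 20) g + ind (fun x => orderOf x = 28) g +
    8 * ind (fun x => orderOf x = 31) g) := Finset.sum_le_sum fun g _ => wt_le β g
  simp only [Finset.sum_add_distrib, ← Finset.mul_sum, sum_ind] at h1
  have h0 : Nat.card {g : G // orderOf g = 1} = 1 := by
    simp [orderOf_eq_one_iff]
  rw [h0] at h1
  have e2 := h.n2
  have e4 := h.n4a
  have e48 := h.n48
  have e5 := h.n5
  have e7 := h.n7
  have e14 := h.n14
  have e19 := h.n19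
  have e20 := h.n20
  have e28 := h.n28
  have e31 := h.n31
  rw [h.card] at e2 e4 e48 e5 e7 e14 e19 e20 e28 e31 ⊢
  generalize Nat.card {g : G // orderOf g = 2} = n2 at *
  generalize Nat.card {g : G // orderOf g = 4 ∧ β g = 8} = n4 at *
  generalize Nat.card {g : G // orderOf g = 4 ∨ orderOf g = 8} = n48 at *
  generalize Nat.card {g : G // orderOf g = 5} = n5 at *
  generalize Nat.card {g : G // orderOf g = 7} = n7 at *
  generalize Nat.card {g : G // orderOf g = 14} = n14 at *
  generalize Nat.card {g : G // orderOf g = 19} = n19 at *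
  generalize Nat.card {g : G // orderOf g = 20} = n20 at *
  generalize Nat.card {g : G // orderOf g = 28} = n28 at *
  generalize Nat.card {g : G // orderOf g = 31} = n31 at *
  refine lt_of_le_of_lt h1 ?_
  omega

theorem F_mul_conj {y : G} (hy : orderOf y = 31) (g : G) :
    F β y g * conj (F β y g) = (wt β g : ℂ) := by
  have : Fact (Nat.Prime 31) := ⟨by norm_num⟩
  by_cases hg : orderOf g = 31
  · obtain ⟨k, hk, hc⟩ := exists_conj (fac31 h) hy hg
    rw [F_pow hy (fun g => h.nr31 y g hy) hk hc, S31_mul_conj hk]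
    unfold wt
    rw [if_pos hg]
    norm_num
  · unfold F wt
    rw [if_neg hg, if_neg hg, map_intCast (starRingEnd ℂ)]
    push_cast
    ring

theorem inner_F [Fintype G] {y : G} (hy : orderOf y = 31) : classInner (F β y) (F β y) = 1 := by
  classical
  have hgen := gen_F h hy
  have hcard : (Nat.card G : ℂ) ≠ 0 := Core.card_ne_zero_complex
  have h1 : classInner (F β y) (F β y) = ((∑ g : G, wt β g : ℤ) : ℂ) / (Nat.card G : ℂ) := by
    rw [Core.classInner_def, Finset.sum_congr rfl (fun g _ => F_mul_conj h hy g)]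
    push_cast
    field_simp
  obtain ⟨n, hn⟩ : ∃ n : ℤ, classInner (F β y) (F β y) = n := by
    obtain ⟨χ, ψ, hχ, hψ, he⟩ := hgen
    obtain ⟨a, ha⟩ := H651.classInner_isInt (gen_F h hy) hχ
    obtain ⟨b, hb⟩ := H651.classInner_isInt (gen_F h hy) hψ
    refine ⟨a - b, ?_⟩
    conv_lhs => rw [he]
    rw [Core.classInner_sub_right, ← he, ha, hb]
    push_cast
    ring
  rw [hn] at h1 ⊢
  have h2 : (n : ℂ) * (Nat.card G : ℂ) = ((∑ g : G, wt β g : ℤ) : ℂ) := by
    rw [h1]
    field_simp
  have h3 : n * (Nat.card G : ℤ) = ∑ g : G, wt β g := by exact_mod_cast h2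
  have h4 := sum_wt h
  rw [← h3] at h4
  have hpos : (0 : ℤ) < Nat.card G := by exact_mod_cast Nat.card_pos
  have h5 : n < 2 := lt_of_mul_lt_mul_right h4 hpos.le
  have h6 : 0 < n * (Nat.card G : ℤ) := by
    rw [h3]
    have h7 : ∀ g : G, 0 ≤ wt β g := by
      intro g
      unfold wt
      split_ifs
      · norm_num
      · positivity
    have h8 : 0 < wt β (1 : G) := by
      unfold wt
      rw [if_neg (by rw [orderOf_one]; norm_num), fval_1 orderOf_one]
      norm_num
    exact Finset.sum_pos' (fun g _ => h7 g) ⟨1, Finset.mem_univ _, h8⟩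
  have h7 : 0 < n := pos_of_mul_pos_left h6 hpos.le
  have h8 : n = 1 := by omega
  rw [h8]
  norm_num

/-- **The irreducible character of degree 767637.** -/
theorem exists_theta : ∃ θ : G → ℂ, IsIrrCharacter G θ ∧ θ 1 = 767637 ∧
    (∀ x : G, 3 ∣ orderOf x → θ x = 0) ∧ (∀ x : G, orderOf x = 19 → θ x = -1) ∧
    (∀ y : G, orderOf y = 31 → θ y ^ 2 + θ y + 8 = 0) := by
  have : Fintype G := Fintype.ofFinite G
  have hp31 : Fact (Nat.Prime 31) := ⟨by norm_num⟩
  obtain ⟨y, hy⟩ := exists_prime_orderOf_dvd_card' (G := G) 31 (by rw [h.card]; norm_num)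
  have h1 : F β y 1 = 767637 := by
    unfold F
    rw [if_neg (by rw [orderOf_one]; norm_num), fval_1 orderOf_one]
    norm_num
  refine ⟨F β y, ?_, h1, ?_, ?_, ?_⟩
  · rcases Core.isIrr_of_generalized (gen_F h hy) (inner_F h hy) with h2 | h2
    · exact h2
    · exfalso
      obtain ⟨n, -, hn⟩ := Core.isIrr_apply_one h2
      rw [Pi.neg_apply, h1] at hn
      have h3 : ((-767637 : ℤ) : ℂ) = ((n : ℤ) : ℂ) := by
        push_cast
        exact hn
      have h4 : (-767637 : ℤ) = n := by exact_mod_cast h3
      omega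
  · intro x hx
    unfold F
    rw [if_neg (by rintro h31; rw [h31] at hx; norm_num at hx), fval_three hx]
    norm_num
  · intro x hx
    unfold F
    rw [if_neg (by rw [hx]; norm_num), fval_19 hx]
    norm_num
  · intro z hz
    obtain ⟨k, hk, hc⟩ := exists_conj (fac31 h) hy hz
    rw [F_pow hy (fun g => h.nr31 y g hy) hk hc]
    exact S31_sq hk

end Cfsg.Agent.H853.ThC
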