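import Cfsg.Agent.H853.ThC.Fun

/-!
# The restriction to a subgroup of order 31
-/

set_option autoImplicit false

open scoped ComplexConjugate
open Cfsg

namespace Cfsg.Agent.H853.ThC

universe u

open Cfsg.Agent.Characters

local instance : Fact (Nat.Prime 31) := ⟨by decide +kernel⟩

/-- The linear characters of the cyclic group of order 31. -/
noncomputable def mu (t : ZMod 31) : Multiplicative (ZMod 31) →* ℂ where
  toFun j := ZMod.stdAddChar (t * Multiplicative.toAdd j)
  map_one' := by
    rw [toAdd_one, mul_zero, AddChar.map_zero_eq_one]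
  map_mul' a b := by
    rw [toAdd_mul, mul_add, AddChar.map_add_eq_mul]

theorem gen31 {E : Type u} [Group E] [Finite E] (hE : Nat.card E = 31) {f : E → ℂ} {x : E}
    (hx : orderOf x = 31) (k0 : ZMod 31) (h1 : f 1 = 767637)
    (h : ∀ j : ZMod 31, j ≠ 0 → f (x ^ j.val) = S31 (j * k0)) :
    IsGeneralizedCharacter E f := by
  classical
  let φ : Multiplicative (ZMod 31) →* E :=
    { toFun := fun j => x ^ (Multiplicative.toAdd j).val
      map_one' := by rw [toAdd_one, ZMod.val_zero, pow_zero]
      map_mul' := fun a b => by rw [toAdd_mul, pow_val_add hx] }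
  have hφ : ∀ j, φ j = x ^ (Multiplicative.toAdd j).val := fun _ => rfl
  have hinj : Function.Injective φ := by
    intro a b hab
    rw [hφ, hφ] at hab
    exact Multiplicative.toAdd.injective (pow_val_inj hx hab)
  have hcard : Nat.card (Multiplicative (ZMod 31)) = Nat.card E := by
    rw [hE]
    show Nat.card (ZMod 31) = 31
    exact Nat.card_zmod 31
  have hbij : Function.Bijective φ := (Nat.bijective_iff_injective_and_card φ).2 ⟨hinj, hcard⟩
  let e : Multiplicative (ZMod 31) ≃* E := MulEquiv.ofBijective φ hbij
  have he : ∀ j, e j = x ^ (Multiplicative.toAdd j).val := fun _ => rfl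
  have hg : IsCharacter (Multiplicative (ZMod 31)) (fun j => f (e j)) := by
    have hc1 : IsCharacter (Multiplicative (ZMod 31))
        (fun j => ∑ t : ZMod 31, 24762 * mu t j + ∑ t ∈ QR, mu (t * k0) j) := by
      have ha : IsCharacter (Multiplicative (ZMod 31))
          (∑ t : ZMod 31, (24762 : ℕ) • (fun j => mu t j)) :=
        Core.isCharacter_sum _ fun t _ =>
          Core.isCharacter_nsmul _ (Brauer.isCharacter_of_monoidHom (mu t))
      have hb : IsCharacter (Multiplicative (ZMod 31)) (∑ t ∈ QR, (fun j => mu (t * k0) j)) :=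
        Core.isCharacter_sum _ fun t _ => Brauer.isCharacter_of_monoidHom _
      have := Core.isCharacter_add ha hb
      convert this using 1
      funext j
      simp [Finset.sum_apply]
    convert hc1 using 1
    funext j
    have h2 : ∑ t ∈ QR, mu (t * k0) j = S31 (Multiplicative.toAdd j * k0) := by
      unfold S31
      refine Finset.sum_congr rfl fun t _ => ?_
      show ZMod.stdAddChar (t * k0 * Multiplicative.toAdd j) = _
      rw [mul_assoc, mul_comm k0]
    rw [h2, ← Finset.mul_sum]
    by_cases hj : Multiplicative.toAdd j = 0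
    · have h3 : ∑ t : ZMod 31, mu t j = 31 := by
        have h4 : ∀ t : ZMod 31, mu t j = 1 := by
          intro t
          show ZMod.stdAddChar (t * Multiplicative.toAdd j) = 1
          rw [hj, mul_zero, AddChar.map_zero_eq_one]
        rw [Finset.sum_congr rfl (fun t _ => h4 t)]
        simp
      rw [h3, he, hj, ZMod.val_zero, pow_zero, h1, zero_mul, S31_zero]
      norm_num
    · have h3 : ∑ t : ZMod 31, mu t j = 0 := sum_std hj
      rw [h3, he, h _ hj, mul_zero, zero_add]
  have h5 := H651.isGeneralizedCharacter_comp_hom e.symm.toMonoidHom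
    (Brauer.isGeneralizedCharacter_of_isCharacter hg)
  convert h5 using 1
  funext z
  show f z = f (e (e.symm z))
  rw [e.apply_symm_apply]

end Cfsg.Agent.H853.ThC
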