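import Cfsg.Prelude.Def_Characters
import Mathlib.GroupTheory.Subgroup.Centralizer
import Mathlib.Algebra.Group.Subgroup.Finite

/-!
# The facts about Thompson's group used for the character of degree 767637

`ThFacts G β`: `β` is a generalized character (the lift of the Brauer character of the
248-dimensional representation over the field with three elements, composed with the
projection to the 3-regular part).
-/

namespace Cfsg.Agent.H853.ThC

universe u

/-- The list of facts about `Th` from which its irreducible character of degree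
`767637 = 3 ^ 10 * 13` is constructed. -/
structure ThFacts (G : Type u) [Group G] [Finite G] (β : G → ℂ) : Prop where
  card : Nat.card G = 90745943887872000
  /-- `β` is a generalized character -/
  gen : IsGeneralizedCharacter G β
  /-- (A) the orders of the 3-regular elements -/
  ord : ∀ g : G, ¬ 3 ∣ orderOf g →
    orderOf g ∈ ({1, 2, 4, 5, 7, 8, 10, 13, 14, 19, 20, 28, 31} : Finset ℕ)
  /-- (B) the values of `β` -/
  b1 : β 1 = 248
  b2 : ∀ g : G, orderOf g = 2 → β g = -8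
  b4 : ∀ g : G, orderOf g = 4 → β g = 0 ∨ β g = 8
  b8 : ∀ g : G, orderOf g = 8 → β g = 0
  b5 : ∀ g : G, orderOf g = 5 → β g = -2
  b10 : ∀ g : G, orderOf g = 10 → β g = 2
  b20 : ∀ g : G, orderOf g = 20 → β g = 0
  b7 : ∀ g : G, orderOf g = 7 → β g = 3
  b14 : ∀ g : G, orderOf g = 14 → β g = -1
  b28 : ∀ g : G, orderOf g = 28 → β g = 1
  /-- (C) the 3-parts of centralizers of 3-regular elements -/
  c2 : ∀ g : G, orderOf g = 2 → ¬ 3 ^ 5 ∣ Nat.card (Subgroup.centralizer {g})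
  c4a : ∀ g : G, orderOf g = 4 → β g = 8 → ¬ 3 ^ 4 ∣ Nat.card (Subgroup.centralizer {g})
  c4b : ∀ g : G, orderOf g = 4 → β g = 0 → ¬ 3 ^ 2 ∣ Nat.card (Subgroup.centralizer {g})
  c8 : ∀ g : G, orderOf g = 8 → ¬ 3 ^ 2 ∣ Nat.card (Subgroup.centralizer {g})
  c5 : ∀ g : G, orderOf g = 5 → ¬ 3 ^ 2 ∣ Nat.card (Subgroup.centralizer {g})
  c7 : ∀ g : G, orderOf g = 7 → ¬ 3 ^ 2 ∣ Nat.card (Subgroup.centralizer {g})
  c14 : ∀ g : G, orderOf g = 14 → ¬ 3 ∣ Nat.card (Subgroup.centralizer {g})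
  c19 : ∀ g : G, orderOf g = 19 → ¬ 3 ∣ Nat.card (Subgroup.centralizer {g})
  c20 : ∀ g : G, orderOf g = 20 → ¬ 3 ∣ Nat.card (Subgroup.centralizer {g})
  c28 : ∀ g : G, orderOf g = 28 → ¬ 3 ∣ Nat.card (Subgroup.centralizer {g})
  c31 : ∀ g : G, orderOf g = 31 → ¬ 3 ∣ Nat.card (Subgroup.centralizer {g})
  /-- (D) the 5- and 7-part of the centralizer of an involution -/
  d5 : ∀ g : G, orderOf g = 2 → ¬ 25 ∣ Nat.card (Subgroup.centralizer {g})
  d7 : ∀ g : G, orderOf g = 2 → ¬ 49 ∣ Nat.card (Subgroup.centralizer {g})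
  /-- (E) elements of order 31 are not real -/
  nr31 : ∀ y g : G, orderOf y = 31 → g * y * g⁻¹ ≠ y⁻¹
  /-- (F) numbers of elements -/
  n2 : 92897280 * Nat.card {g : G // orderOf g = 2} ≤ Nat.card G
  n4a : 6300 * Nat.card {g : G // orderOf g = 4 ∧ β g = 8} ≤ Nat.card G
  n48 : 181440 * Nat.card {g : G // orderOf g = 4 ∨ orderOf g = 8} ≤ 20224 * Nat.card G
  n5 : 3000 * Nat.card {g : G // orderOf g = 5} ≤ Nat.card G
  n7 : 1176 * Nat.card {g : G // orderOf g = 7} ≤ Nat.card G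
  n14 : 56 * Nat.card {g : G // orderOf g = 14} ≤ Nat.card G
  n19 : 19 * Nat.card {g : G // orderOf g = 19} ≤ Nat.card G
  n20 : 20 * Nat.card {g : G // orderOf g = 20} ≤ Nat.card G
  n28 : 28 * Nat.card {g : G // orderOf g = 28} ≤ Nat.card G
  n31 : 31 * Nat.card {g : G // orderOf g = 31} ≤ 2 * Nat.card G

end Cfsg.Agent.H853.ThC
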