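import Mathlib.NumberTheory.LegendreSymbol.AddCharacter
import Mathlib.Analysis.SpecialFunctions.Complex.CircleAddChar
import Mathlib.NumberTheory.GaussSum

/-!
# The sum over the squares modulo 31
-/

set_option autoImplicit false

open scoped ComplexConjugate

namespace Cfsg.Agent.H853.ThC

local instance : Fact (Nat.Prime 31) := ⟨by decide +kernel⟩

/-- The nonzero squares modulo 31. -/
def QR : Finset (ZMod 31) := Finset.univ.filter fun x => x ^ 15 = 1

theorem mem_QR {x : ZMod 31} : x ∈ QR ↔ x ^ 15 = 1 := by simp [QR]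

theorem card_QR : QR.card = 15 := by decide +kernel

theorem QR_count : ∀ c : ZMod 31, ((QR ×ˢ QR).filter fun p => p.1 + p.2 = c).card =
    (if c ∈ QR then 7 else 0) + (if -c ∈ QR then 8 else 0) := by decide +kernel

theorem QR_cases : ∀ c : ZMod 31, c ≠ 0 → (c ∈ QR ∧ -c ∉ QR) ∨ (c ∉ QR ∧ -c ∈ QR) := by
  decide +kernel

theorem pow_fifteen : ∀ c : ZMod 31, c ≠ 0 → c ^ 15 = 1 ∨ c ^ 15 = -1 := by
  decide +kernel

/-- The sum of `ζ ^ (j k)` over the squares `j` modulo 31. -/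
noncomputable def S31 (k : ZMod 31) : ℂ := ∑ j ∈ QR, ZMod.stdAddChar (j * k)

theorem S31_mul {m : ZMod 31} (hm : m ^ 15 = 1) (k : ZMod 31) : S31 (m * k) = S31 k := by
  have hm0 : m ≠ 0 := by
    rintro rfl
    norm_num at hm
  unfold S31
  refine Finset.sum_bij (fun j _ => j * m) ?_ ?_ ?_ ?_
  · intro j hj
    rw [mem_QR] at hj ⊢
    rw [mul_pow, hj, hm, one_mul]
  · intro i _ j _ h
    exact mul_right_cancel₀ hm0 h
  · intro j hj
    refine ⟨j * m⁻¹, ?_, ?_⟩
    · rw [mem_QR] at hj ⊢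
      rw [mul_pow, hj, inv_pow, hm, inv_one, one_mul]
    · rw [mul_assoc, inv_mul_cancel₀ hm0, mul_one]
  · intro j _
    rw [mul_assoc]

theorem sum_std {k : ZMod 31} (hk : k ≠ 0) : ∑ j : ZMod 31, (ZMod.stdAddChar (j * k) : ℂ) = 0 := by
  have h := AddChar.sum_mulShift (R := ZMod 31) (R' := ℂ) (ψ := ZMod.stdAddChar) k
    (ZMod.isPrimitive_stdAddChar 31)
  rw [if_neg hk] at h
  exact_mod_cast h

theorem sum_split (g : ZMod 31 → ℂ) :
    ∑ j : ZMod 31, g j = g 0 + ∑ j ∈ QR, g j + ∑ j ∈ QR, g (-j) := by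
  have h1 : (Finset.univ : Finset (ZMod 31)) = insert 0 (QR ∪ QR.image (fun x => -x)) := by
    decide +kernel
  have h2 : (0 : ZMod 31) ∉ QR ∪ QR.image (fun x => -x) := by decide +kernel
  have h3 : Disjoint QR (QR.image (fun x => -x)) := by decide +kernel
  rw [h1, Finset.sum_insert h2, Finset.sum_union h3, Finset.sum_image (fun x _ y _ h => neg_injective h),
    add_assoc]

theorem S31_neg {k : ZMod 31} (hk : k ≠ 0) : S31 k + S31 (-k) = -1 := by
  have h1 := sum_std hk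
  rw [sum_split, zero_mul, AddChar.map_zero_eq_one] at h1
  have h2 : ∑ j ∈ QR, (ZMod.stdAddChar (-j * k) : ℂ) = S31 (-k) := by
    unfold S31
    refine Finset.sum_congr rfl fun j _ => ?_
    rw [neg_mul, mul_neg]
  rw [h2] at h1
  have h3 : ∑ j ∈ QR, (ZMod.stdAddChar (j * k) : ℂ) = S31 k := rfl
  rw [h3] at h1
  linear_combination h1

theorem S31_sq_aux (k : ZMod 31) : S31 k ^ 2 = 7 * S31 k + 8 * S31 (-k) := by
  have h1 : S31 k ^ 2 = ∑ p ∈ QR ×ˢ QR, (ZMod.stdAddChar ((p.1 + p.2) * k) : ℂ) := by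
    rw [pow_two, S31, Finset.sum_mul_sum, Finset.sum_product]
    refine Finset.sum_congr rfl fun i _ => Finset.sum_congr rfl fun j _ => ?_
    rw [add_mul, AddChar.map_add_eq_mul]
  rw [h1, ← Finset.sum_fiberwise (QR ×ˢ QR) (fun p => p.1 + p.2)]
  have h2 : ∀ c : ZMod 31, ∑ p ∈ (QR ×ˢ QR).filter (fun p => p.1 + p.2 = c),
      (ZMod.stdAddChar ((p.1 + p.2) * k) : ℂ) =
      (if c ∈ QR then 7 * (ZMod.stdAddChar (c * k) : ℂ) else 0) +
      (if -c ∈ QR then 8 * (ZMod.stdAddChar (c * k) : ℂ) else 0) := by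
    intro c
    have h3 : ∀ p ∈ (QR ×ˢ QR).filter (fun p => p.1 + p.2 = c),
        (ZMod.stdAddChar ((p.1 + p.2) * k) : ℂ) = ZMod.stdAddChar (c * k) := by
      intro p hp
      rw [(Finset.mem_filter.1 hp).2]
    rw [Finset.sum_congr rfl h3, Finset.sum_const, QR_count c]
    split_ifs <;> simp <;> ring
  rw [Finset.sum_congr rfl (fun c _ => h2 c), Finset.sum_add_distrib]
  congr 1
  · rw [Finset.sum_ite_mem, Finset.univ_inter, ← Finset.mul_sum]
    rfl
  · rw [← Equiv.sum_comp (Equiv.neg (ZMod 31))]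
    have h4 : ∀ c : ZMod 31, (if -(Equiv.neg (ZMod 31) c) ∈ QR then
        8 * (ZMod.stdAddChar ((Equiv.neg (ZMod 31) c) * k) : ℂ) else 0) =
        if c ∈ QR then 8 * (ZMod.stdAddChar (c * -k) : ℂ) else 0 := by
      intro c
      rw [Equiv.neg_apply, neg_neg, neg_mul, mul_neg]
    rw [Finset.sum_congr rfl (fun c _ => h4 c), Finset.sum_ite_mem, Finset.univ_inter,
      ← Finset.mul_sum]
    rfl

theorem S31_sq {k : ZMod 31} (hk : k ≠ 0) : S31 k ^ 2 + S31 k + 8 = 0 := by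
  have h1 := S31_sq_aux k
  have h2 := S31_neg hk
  linear_combination h1 + 8 * h2

theorem conj_S31 (k : ZMod 31) : conj (S31 k) = S31 (-k) := by
  unfold S31
  rw [map_sum]
  refine Finset.sum_congr rfl fun j _ => ?_
  rw [mul_neg, AddChar.map_neg_eq_conj]

theorem S31_mul_conj {k : ZMod 31} (hk : k ≠ 0) : S31 k * conj (S31 k) = 8 := by
  rw [conj_S31]
  have h1 := S31_sq hk
  have h2 := S31_neg hk
  linear_combination S31 k * h2 - h1

theorem S31_zero : S31 0 = 15 := by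
  unfold S31
  simp [card_QR]

end Cfsg.Agent.H853.ThC
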