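import Cfsg.Agent.Characters.Brauer
import Cfsg.Agent.Characters.GaloisBasic
import Cfsg.Agent.H651.StarMain

/-!
# Local tests for generalized characters of nilpotent groups

* `isIntegral_avg`: the average of a generalized character over a coset `R b`, `b` commuting with
  the subgroup `R`, is an algebraic integer.
* `exists_int_of_loc`: a rational class function of a finite nilpotent group with integral local
  averages has integral inner products with all characters.
-/

set_option autoImplicit false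

open scoped ComplexConjugate
open Cfsg

namespace Cfsg.Agent.H853.ThC

universe u

open Cfsg.Agent.Characters

theorem isIntegral_avg_char {E : Type u} [Group E] [Finite E] {φ : E → ℂ}
    (hφ : IsCharacter E φ) (R : Subgroup E) [Fintype R] (b : E)
    (hb : ∀ a ∈ R, Commute a b) :
    IsIntegral ℤ ((Nat.card R : ℂ)⁻¹ * ∑ a : R, φ (a * b)) := by
  classical
  let C := Subgroup.zpowers b
  have hCP : ∀ (m : R) (n : C), Commute (R.subtype m) (C.subtype n) := by
    intro m n
    obtain ⟨k, hk⟩ := Subgroup.mem_zpowers_iff.1 n.2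
    show Commute (m : E) (n : E)
    rw [← hk]
    exact (hb m m.2).zpow_right k
  let Ψ : R × C →* E := MonoidHom.noncommCoprod R.subtype C.subtype hCP
  have hΨ : ∀ a c, Ψ (a, c) = (a : E) * (c : E) := fun _ _ => rfl
  have : Fintype C := Fintype.ofFinite _
  obtain ⟨S, hS⟩ : ∃ S : Finset (C →* ℂ), ∀ c : C,
      ∑ μ ∈ S, μ c = if c = 1 then (Nat.card C : ℂ) else 0 := by
    let _ : CommGroup C := { (inferInstance : Group C) with
      mul_comm := fun x y => by
        obtain ⟨i, hi⟩ := Subgroup.mem_zpowers_iff.1 x.2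
        obtain ⟨j, hj⟩ := Subgroup.mem_zpowers_iff.1 y.2
        apply Subtype.ext
        change (x : E) * (y : E) = (y : E) * (x : E)
        rw [← hi, ← hj, ← zpow_add, ← zpow_add, add_comm] }
    exact Brauer.exists_dual C
  let b' : C := ⟨b, Subgroup.mem_zpowers b⟩
  have hφΨ : IsCharacter (R × C) (fun x => φ (Ψ x)) := Core.isCharacter_comp Ψ hφ
  have hint : ∀ μ : C →* ℂ, ∃ n : ℕ, (Nat.card (R × C) : ℂ)⁻¹ *
      ∑ x : R × C, φ (Ψ x) * μ (x.2)⁻¹ = n := by
    intro μ
    have hμ : IsCharacter (R × C) (fun x => μ x.2) :=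
      Core.isCharacter_comp (MonoidHom.snd R C) (Brauer.isCharacter_of_monoidHom μ)
    obtain ⟨n, hn⟩ := Core.classInner_isNat hφΨ hμ
    refine ⟨n, ?_⟩
    rw [← hn, Core.classInner_def]
    congr 1
    refine Finset.sum_congr rfl fun x _ => ?_
    have h1 := Core.isCharacter_apply_inv hμ x
    rw [← h1]
    rfl
  choose n hn using hint
  have key : (Nat.card R : ℂ)⁻¹ * ∑ a : R, φ (a * b) = ∑ μ ∈ S, μ b' * (n μ : ℂ) := by
    have hCne : (Nat.card C : ℂ) ≠ 0 := by exact_mod_cast Nat.card_pos.ne'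
    have h1 : ∑ μ ∈ S, μ b' * (n μ : ℂ) = (Nat.card (R × C) : ℂ)⁻¹ *
        ∑ x : R × C, φ (Ψ x) * (∑ μ ∈ S, μ (b' * (x.2)⁻¹)) := by
      have h2 : ∀ μ ∈ S, μ b' * (n μ : ℂ) = ∑ x : R × C, (Nat.card (R × C) : ℂ)⁻¹ *
          (φ (Ψ x) * μ (b' * (x.2)⁻¹)) := by
        intro μ _
        rw [← hn, ← Finset.mul_sum, mul_left_comm]
        congr 1
        rw [Finset.mul_sum]
        refine Finset.sum_congr rfl fun x _ => ?_
        rw [map_mul]
        ring
      rw [Finset.sum_congr rfl h2, Finset.sum_comm, Finset.mul_sum]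
      refine Finset.sum_congr rfl fun x _ => ?_
      rw [← Finset.mul_sum, ← Finset.mul_sum]
    rw [h1, Fintype.sum_prod_type]
    have h2 : ∀ a : R, ∑ c : C, φ (Ψ (a, c)) * (∑ μ ∈ S, μ (b' * ((a, c) : R × C).2⁻¹)) =
        φ (a * b) * (Nat.card C : ℂ) := by
      intro a
      rw [Finset.sum_eq_single b']
      · rw [hS, if_pos (mul_inv_cancel b')]
        rfl
      · intro c _ hc
        rw [hS, if_neg, mul_zero]
        intro h
        exact hc (mul_inv_eq_one.1 h).symm
      · intro h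
        exact absurd (Finset.mem_univ b') h
    rw [Finset.sum_congr rfl (fun a _ => h2 a), ← Finset.sum_mul, Nat.card_prod]
    push_cast
    field_simp
  rw [key]
  refine IsIntegral.sum _ fun μ _ => IsIntegral.mul (Brauer.isIntegral_monoidHom μ b') ?_
  exact isIntegral_algebraMap (R := ℤ) (x := (n μ : ℤ)) |> fun h => by simpa using h

/-- The average of a generalized character over a coset `R b` of a subgroup `R` by an element
commuting with `R` is an algebraic integer. -/
theorem isIntegral_avg {E : Type u} [Group E] [Finite E] {φ : E → ℂ}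
    (hφ : IsGeneralizedCharacter E φ) (R : Subgroup E) [Fintype R] (b : E)
    (hb : ∀ a ∈ R, Commute a b) :
    IsIntegral ℤ ((Nat.card R : ℂ)⁻¹ * ∑ a : R, φ (a * b)) := by
  obtain ⟨χ, ψ, hχ, hψ, rfl⟩ := hφ
  have h := IsIntegral.sub (isIntegral_avg_char hχ R b hb) (isIntegral_avg_char hψ R b hb)
  have h1 : (Nat.card R : ℂ)⁻¹ * ∑ a : R, (χ - ψ) (a * b) =
      (Nat.card R : ℂ)⁻¹ * ∑ a : R, χ (a * b) - (Nat.card R : ℂ)⁻¹ * ∑ a : R, ψ (a * b) := by
    rw [← mul_sub, ← Finset.sum_sub_distrib]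
    rfl
  rw [h1]
  exact h

/-- The local condition at the prime `r`. -/
def Loc {E : Type u} [Group E] (r : ℕ) (f : E → ℂ) : Prop :=
  ∃ n : ℕ, n.Coprime r ∧ ∀ (R : Subgroup E) (_ : Fintype R) (b : E), IsPGroup r R →
    ¬ r ∣ orderOf b → (∀ a ∈ R, Commute a b) → ∀ χ : E → ℂ, IsCharacter E χ →
      IsIntegral ℤ ((n : ℂ) * ((Nat.card R : ℂ)⁻¹ * ∑ a : R, f (a * b) * conj (χ (a * b))))

theorem exists_coprime_of_loc {E : Type u} [Group E] [Fintype E] [Group.IsNilpotent E]
    {f : E → ℂ} {r : ℕ} (hr : r.Prime) (h : Loc r f) {χ : E → ℂ} (hχ : IsCharacter E χ) :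
    ∃ n : ℕ, n.Coprime r ∧ IsIntegral ℤ ((n : ℂ) * classInner f χ) := by
  classical
  have : Fact r.Prime := ⟨hr⟩
  obtain ⟨n, hn, h⟩ := h
  obtain ⟨A, B, hA, hB, ⟨e⟩⟩ := H651.exists_prod_of_nilpotent (E := E) r
  have : Fintype A := Fintype.ofFinite _
  have : Fintype B := Fintype.ofFinite _
  let i : A →* E := e.toMonoidHom.comp (MonoidHom.inl A B)
  have hi : ∀ a, i a = e (a, 1) := fun _ => rfl
  have hinj : Function.Injective i := by
    intro a a' haa
    rw [hi, hi] at haa
    exact (Prod.ext_iff.1 (e.injective haa)).1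
  let R : Subgroup E := i.range
  have : Fintype R := Fintype.ofFinite _
  let eR : A ≃* R := MonoidHom.ofInjective hinj
  have heR : ∀ a : A, ((eR a : R) : E) = e (a, 1) := fun _ => rfl
  have hR : IsPGroup r R := hA.of_equiv eR
  have hcardR : Nat.card R = Nat.card A := (Nat.card_congr eR.toEquiv).symm
  have hbcomm : ∀ b : B, ∀ a ∈ R, Commute a (e (1, b)) := by
    rintro b a ⟨a', rfl⟩
    show i a' * e (1, b) = e (1, b) * i a'
    rw [hi, ← map_mul, ← map_mul, Prod.mk_mul_mk, Prod.mk_mul_mk, one_mul, mul_one, one_mul,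
      mul_one]
  have hbord : ∀ b : B, ¬ r ∣ orderOf (e (1, b)) := by
    intro b hb
    apply hB
    have h1 : orderOf (e (1, b)) = orderOf b := by
      rw [MulEquiv.orderOf_eq]
      exact orderOf_injective (MonoidHom.inr A B) (fun x y hxy => (Prod.ext_iff.1 hxy).2) b
    rw [h1] at hb
    exact hb.trans (orderOf_dvd_natCard b)
  refine ⟨Nat.card B * n, ?_, ?_⟩
  · exact Nat.Coprime.mul_left (((Nat.Prime.coprime_iff_not_dvd hr).2 hB).symm) hn
  have hne : (Nat.card A : ℂ) ≠ 0 := by exact_mod_cast Nat.card_pos.ne'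
  have hne' : (Nat.card B : ℂ) ≠ 0 := by exact_mod_cast Nat.card_pos.ne'
  have key : ((Nat.card B * n : ℕ) : ℂ) * classInner f χ = ∑ b : B, ((n : ℂ) *
      ((Nat.card R : ℂ)⁻¹ * ∑ a : R, f (a * e (1, b)) * conj (χ (a * e (1, b))))) := by
    rw [Core.classInner_def, ← Finset.mul_sum, ← Finset.mul_sum, hcardR]
    have h1 : ∑ g : E, f g * conj (χ g) = ∑ b : B, ∑ a : R, f (a * e (1, b)) *
        conj (χ (a * e (1, b))) := by
      rw [← Equiv.sum_comp e.toEquiv, Fintype.sum_prod_type, Finset.sum_comm]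
      refine Finset.sum_congr rfl fun b _ => ?_
      rw [← Equiv.sum_comp eR.toEquiv]
      refine Finset.sum_congr rfl fun a _ => ?_
      have h2 : ((eR.toEquiv a : R) : E) * e (1, b) = e (a, b) := by
        show ((eR a : R) : E) * e (1, b) = e (a, b)
        rw [heR, ← map_mul, Prod.mk_mul_mk, one_mul, mul_one]
      rw [h2]
      rfl
    rw [h1]
    have h3 : Nat.card E = Nat.card A * Nat.card B := by
      rw [← Nat.card_congr e.toEquiv, Nat.card_prod]
    rw [h3]
    push_cast
    field_simp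
  rw [key]
  exact IsIntegral.sum _ fun b _ => h R inferInstance (e (1, b)) hR (hbord b) (hbcomm b) χ hχ

theorem isIntegral_of_coprime {z : ℂ}
    (h : ∀ r : ℕ, r.Prime → ∃ n : ℕ, n.Coprime r ∧ IsIntegral ℤ ((n : ℂ) * z)) :
    IsIntegral ℤ z := by
  let I : Ideal ℤ :=
    { carrier := {n : ℤ | IsIntegral ℤ ((n : ℂ) * z)}
      add_mem' := by
        intro a b ha hb
        show IsIntegral ℤ (((a + b : ℤ) : ℂ) * z)
        push_cast
        rw [add_mul]
        exact IsIntegral.add ha hb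
      zero_mem' := by
        show IsIntegral ℤ (((0 : ℤ) : ℂ) * z)
        simp [isIntegral_zero]
      smul_mem' := by
        intro c a ha
        show IsIntegral ℤ (((c • a : ℤ) : ℂ) * z)
        have : ((c • a : ℤ) : ℂ) * z = (c : ℂ) * ((a : ℂ) * z) := by
          rw [smul_eq_mul]; push_cast; ring
        rw [this]
        exact IsIntegral.mul (by simpa using isIntegral_algebraMap (R := ℤ) (A := ℂ) (x := c)) ha }
  have hI : ∀ n : ℤ, n ∈ I ↔ IsIntegral ℤ ((n : ℂ) * z) := fun _ => Iff.rfl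
  obtain ⟨d, hd⟩ : ∃ d : ℤ, I = Ideal.span {d} :=
    ⟨Submodule.IsPrincipal.generator I, (Ideal.span_singleton_generator I).symm⟩
  have h1 : d.natAbs = 1 := by
    by_contra hne
    obtain ⟨r, hr, hrd⟩ := Nat.exists_prime_and_dvd hne
    obtain ⟨n, hn, hz⟩ := h r hr
    have h2 : (n : ℤ) ∈ I := by
      rw [hI]
      simpa using hz
    rw [hd, Ideal.mem_span_singleton] at h2
    have h3 : r ∣ n := by
      have h4 : (r : ℤ) ∣ n := (Int.natCast_dvd.2 hrd).trans h2
      exact_mod_cast h4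
    have h5 := Nat.Coprime.eq_one_of_dvd hn.symm h3
    exact hr.one_lt.ne' h5
  have h2 : (1 : ℤ) ∈ I := by
    rw [hd, Ideal.mem_span_singleton]
    exact (Int.isUnit_iff_natAbs_eq.2 h1).dvd
  rw [hI] at h2
  simpa using h2

/-- The inner product of a function, constant on the generators of every cyclic subgroup and with
integral values, with a character is rational. -/
theorem map_classInner {E : Type u} [Group E] [Fintype E] {f : E → ℂ}
    (hf : ∀ e, ∃ k : ℤ, f e = k) (hfp : ∀ (m : ℕ), m.Coprime (Nat.card E) → ∀ e, f (e ^ m) = f e)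
    {χ : E → ℂ} (hχ : IsCharacter E χ) (σ : ℂ ≃+* ℂ) : σ (classInner f χ) = classInner f χ := by
  obtain ⟨m, hm, h⟩ := GaloisBasic.exists_pow_of_ringEquiv (G := E) σ
  rw [Core.classInner_def, map_mul, map_inv₀, map_natCast, map_sum]
  congr 1
  have hbij : Function.Bijective (fun e : E => e ^ m) := by
    have h1 := powCoprime (G := E) (n := m) hm.symm
    exact (powCoprime (G := E) (n := m) hm.symm).bijective
  rw [← (Equiv.ofBijective _ hbij).sum_comp (fun g => f g * conj (χ g))]
  refine Finset.sum_congr rfl fun e _ => ?_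
  obtain ⟨k, hk⟩ := hf e
  rw [map_mul, hk, map_intCast, Equiv.ofBijective_apply, hfp m hm e, hk]
  congr 1
  rw [← Core.isCharacter_apply_inv hχ, h χ hχ, inv_pow, Core.isCharacter_apply_inv hχ]

theorem exists_int_of_loc {E : Type u} [Group E] [Fintype E] [Group.IsNilpotent E]
    {f : E → ℂ} (hf : ∀ e, ∃ k : ℤ, f e = k)
    (hfp : ∀ (m : ℕ), m.Coprime (Nat.card E) → ∀ e, f (e ^ m) = f e)
    (h : ∀ r : ℕ, r.Prime → Loc r f) {χ : E → ℂ} (hχ : IsCharacter E χ) :
    ∃ n : ℤ, classInner f χ = n := by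
  have hint : IsIntegral ℤ (classInner f χ) :=
    isIntegral_of_coprime fun r hr => exists_coprime_of_loc hr (h r hr) hχ
  refine GaloisBasic.exists_int_of_isIntegral hint ?_
  refine GaloisBasic.exists_rat_of_forall_ringEquiv (hint.tower_top) fun σ => ?_
  exact map_classInner hf hfp hχ σ

theorem isGeneralizedCharacter_of_loc {E : Type u} [Group E] [Finite E] [Group.IsNilpotent E]
    {f : E → ℂ} (hcl : IsClassFunction E f) (hf : ∀ e, ∃ k : ℤ, f e = k)
    (hfp : ∀ (m : ℕ), m.Coprime (Nat.card E) → ∀ e, f (e ^ m) = f e)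
    (h : ∀ r : ℕ, r.Prime → Loc r f) : IsGeneralizedCharacter E f := by
  have : Fintype E := Fintype.ofFinite _
  exact Brauer.isGeneralizedCharacter_of_int hcl fun χ hχ =>
    exists_int_of_loc hf hfp h (Core.isIrr_isCharacter hχ)

end Cfsg.Agent.H853.ThC
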