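import Cfsg.Agent.H853.ThC.Facts
import Cfsg.Agent.H853.ThC.Loc
import Cfsg.Agent.H853.ThC.Gauss

/-!
# The class function of degree 767637 on a group with the facts of Thompson's group
-/

set_option autoImplicit false

open scoped ComplexConjugate
open Cfsg

namespace Cfsg.Agent.H853.ThC

universe u

open Cfsg.Agent.Characters

variable {G : Type u} [Group G]

open Classical in
/-- The values away from the elements of order 31. -/
noncomputable def fval (β : G → ℂ) (g : G) : ℤ :=
  if 3 ∣ orderOf g then 0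
  else if orderOf g = 1 then 767637
  else if orderOf g = 2 then 405
  else if orderOf g = 4 then (if β g = 8 then -27 else -3)
  else if orderOf g = 8 then -3
  else if orderOf g = 5 then 12
  else if orderOf g = 7 then 3
  else if orderOf g = 14 then -1
  else if orderOf g = 19 then -1
  else if orderOf g = 20 then 2
  else if orderOf g = 28 then 1
  else 0

open Classical in
/-- A choice of an element with a property, if there is one. -/
noncomputable def pick (P : ZMod 31 → Prop) : ZMod 31 :=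
  if h : ∃ k : ZMod 31, P k then h.choose else 0

theorem pick_spec {P : ZMod 31 → Prop} (h : ∃ k : ZMod 31, P k) : P (pick P) := by
  unfold pick
  rw [dif_pos h]
  exact h.choose_spec

/-- The exponent `k` such that `g` is conjugate to `y ^ k`. -/
noncomputable def cls (y g : G) : ZMod 31 :=
  pick fun k => k ≠ 0 ∧ IsConj (y ^ k.val) g

open Classical in
/-- The class function. -/
noncomputable def F (β : G → ℂ) (y g : G) : ℂ :=
  if orderOf g = 31 then S31 (cls y g) else (fval β g : ℂ)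

theorem orderOf_conj (g h : G) : orderOf (h * g * h⁻¹) = orderOf g := by
  have := MulEquiv.orderOf_eq (MulAut.conj h) g
  simpa using this

theorem fval_conj {β : G → ℂ} (hβ : IsClassFunction G β) (g h : G) :
    fval β (h * g * h⁻¹) = fval β g := by
  unfold fval
  rw [orderOf_conj, hβ g h]

theorem cls_conj (y g h : G) : cls y (h * g * h⁻¹) = cls y g := by
  unfold cls
  have h1 : ∀ x, IsConj x (h * g * h⁻¹) ↔ IsConj x g := by
    intro x
    have h2 : IsConj g (h * g * h⁻¹) := isConj_iff.2 ⟨h, rfl⟩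
    exact ⟨fun h3 => h3.trans h2.symm, fun h3 => h3.trans h2⟩
  simp only [h1]

theorem F_class {β : G → ℂ} (hβ : IsClassFunction G β) (y : G) : IsClassFunction G (F β y) := by
  intro g h
  unfold F
  rw [orderOf_conj, cls_conj, fval_conj hβ]

theorem gen_class {β : G → ℂ} (hβ : IsGeneralizedCharacter G β) : IsClassFunction G β := by
  obtain ⟨χ, ψ, hχ, hψ, rfl⟩ := hβ
  intro g h
  show χ _ - ψ _ = χ _ - ψ _
  rw [Core.isCharacter_isClassFunction hχ g h, Core.isCharacter_isClassFunction hψ g h]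

theorem gen_inv [Finite G] {β : G → ℂ} (hβ : IsGeneralizedCharacter G β) (g : G) :
    β g⁻¹ = conj (β g) := by
  obtain ⟨χ, ψ, hχ, hψ, rfl⟩ := hβ
  show χ _ - ψ _ = conj (χ _ - ψ _)
  rw [Core.isCharacter_apply_inv hχ g, Core.isCharacter_apply_inv hψ g, map_sub]

theorem pow_val_mul {y : G} (hy : orderOf y = 31) (a b : ZMod 31) :
    y ^ (a * b).val = (y ^ a.val) ^ b.val := by
  rw [ZMod.val_mul, ← pow_mul]
  conv_rhs => rw [← pow_mod_orderOf, hy]

theorem pow_val_add {y : G} (hy : orderOf y = 31) (a b : ZMod 31) :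
    y ^ (a + b).val = y ^ a.val * y ^ b.val := by
  rw [ZMod.val_add, ← pow_add]
  conv_rhs => rw [← pow_mod_orderOf, hy]

theorem pow_val_inj {y : G} (hy : orderOf y = 31) {a b : ZMod 31} (h : y ^ a.val = y ^ b.val) :
    a = b := by
  rw [pow_eq_pow_iff_modEq, hy] at h
  apply ZMod.val_injective
  have h1 := h
  unfold Nat.ModEq at h1
  rwa [Nat.mod_eq_of_lt (ZMod.val_lt a), Nat.mod_eq_of_lt (ZMod.val_lt b)] at h1

theorem orderOf_pow_val {y : G} (hy : orderOf y = 31) {k : ZMod 31} (hk : k ≠ 0) :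
    orderOf (y ^ k.val) = 31 := by
  have h1 : (y ^ k.val) ^ 31 = 1 := by
    have h2 : y ^ 31 = 1 := by
      rw [← hy, pow_orderOf_eq_one]
    rw [← pow_mul, mul_comm, pow_mul, h2, one_pow]
  refine orderOf_eq_prime (p := 31) (hp := ⟨by decide +kernel⟩) h1 ?_
  intro h
  apply hk
  have h2 : y ^ k.val = y ^ (0 : ZMod 31).val := by
    rw [h, ZMod.val_zero, pow_zero]
  exact pow_val_inj hy h2

local instance : Fact (Nat.Prime 31) := ⟨by decide +kernel⟩

section real

variable {y : G} (hy : orderOf y = 31) (hnr : ∀ g : G, g * y * g⁻¹ ≠ y⁻¹)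
include hy

theorem conj_iter {h : G} {m : ZMod 31} (hm : h * y * h⁻¹ = y ^ m.val) (n : ℕ) :
    h ^ n * y * (h ^ n)⁻¹ = y ^ (m ^ n).val := by
  induction n with
  | zero =>
    rw [pow_zero, pow_zero, one_mul, inv_one, mul_one]
    have : (1 : ZMod 31).val = 1 := rfl
    rw [this, pow_one]
  | succ n ih =>
    have h1 : h ^ (n + 1) * y * (h ^ (n + 1))⁻¹ = h * (h ^ n * y * (h ^ n)⁻¹) * h⁻¹ := by
      rw [pow_succ']
      group
    rw [h1, ih, pow_succ', pow_val_mul hy, ← hm, conj_pow]

include hnr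

theorem S31_congr {k l : ZMod 31} (hk : k ≠ 0) (hl : l ≠ 0)
    (h : IsConj (y ^ k.val) (y ^ l.val)) : S31 k = S31 l := by
  obtain ⟨h, hh⟩ := isConj_iff.1 h
  have hm : h * y * h⁻¹ = y ^ (l * k⁻¹).val := by
    have h1 : y = (y ^ k.val) ^ (k⁻¹).val := by
      rw [← pow_val_mul hy, mul_inv_cancel₀ hk]
      have : (1 : ZMod 31).val = 1 := rfl
      rw [this, pow_one]
    rw [pow_val_mul hy, ← hh, conj_pow, ← h1]
  have hne : l * k⁻¹ ≠ 0 := mul_ne_zero hl (inv_ne_zero hk)
  rcases pow_fifteen _ hne with h15 | h15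
  · have h2 := S31_mul h15 k
    rw [mul_assoc, inv_mul_cancel₀ hk, mul_one] at h2
    exact h2.symm
  · exfalso
    have h3 := conj_iter hy hm 15
    rw [h15] at h3
    apply hnr (h ^ 15)
    rw [h3, eq_inv_iff_mul_eq_one, ← pow_succ]
    have : (-1 : ZMod 31).val + 1 = 31 := by decide +kernel
    rw [this, ← hy, pow_orderOf_eq_one]

theorem F_pow {β : G → ℂ} {g : G} {k : ZMod 31} (hk : k ≠ 0) (h : IsConj (y ^ k.val) g) :
    F β y g = S31 k := by
  have hg : orderOf g = 31 := by
    obtain ⟨c, hc⟩ := isConj_iff.1 h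
    rw [← hc, orderOf_conj, orderOf_pow_val hy hk]
  have hex : ∃ k : ZMod 31, k ≠ 0 ∧ IsConj (y ^ k.val) g := ⟨k, hk, h⟩
  have hsp := pick_spec hex
  unfold F
  rw [if_pos hg]
  exact S31_congr hy hnr hsp.1 hk (hsp.2.trans h.symm)

end real

/-- Sylow's theorem for elements of order 31. -/
theorem exists_conj [Finite G] (hG : (Nat.card G).factorization 31 = 1) {y g : G}
    (hy : orderOf y = 31) (hg : orderOf g = 31) :
    ∃ k : ZMod 31, k ≠ 0 ∧ IsConj (y ^ k.val) g := by
  let P : Sylow 31 G := Sylow.ofCard (Subgroup.zpowers g) (by rw [Nat.card_zpowers, hg, hG, pow_one])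
  let Q : Sylow 31 G := Sylow.ofCard (Subgroup.zpowers y) (by rw [Nat.card_zpowers, hy, hG, pow_one])
  obtain ⟨h, hh⟩ := MulAction.exists_smul_eq G P Q
  have h1 : h * g * h⁻¹ ∈ Subgroup.zpowers y := by
    have h2 : (Q : Subgroup G) = Subgroup.zpowers y := rfl
    have h3 : (P : Subgroup G) = Subgroup.zpowers g := rfl
    rw [← h2, ← hh, Sylow.coe_subgroup_smul]
    have h4 := Subgroup.smul_mem_pointwise_smul g (MulAut.conj h) (P : Subgroup G)
      (by rw [h3]; exact Subgroup.mem_zpowers g)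
    simpa using h4
  have h1' : h * g * h⁻¹ ∈ Submonoid.powers y := by
    rwa [← mem_powers_iff_mem_zpowers] at h1
  obtain ⟨n, hn⟩ := h1'
  have hn' : y ^ n = h * g * h⁻¹ := hn
  refine ⟨(n : ZMod 31), ?_, ?_⟩
  · intro h0
    have h5 : 31 ∣ n := (ZMod.natCast_eq_zero_iff n 31).1 h0
    have h6 : y ^ n = 1 := by
      rw [← hy] at h5
      exact orderOf_dvd_iff_pow_eq_one.1 h5
    rw [h6] at hn'
    have h7 : orderOf (h * g * h⁻¹) = 1 := by rw [← hn', orderOf_one]
    rw [orderOf_conj, hg] at h7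
    norm_num at h7
  · rw [ZMod.val_natCast]
    have h8 : y ^ (n % 31) = y ^ n := by
      conv_rhs => rw [← pow_mod_orderOf, hy]
    rw [h8, hn']
    exact (isConj_iff.2 ⟨h, rfl⟩ : IsConj g (h * g * h⁻¹)).symm

end Cfsg.Agent.H853.ThC
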