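import Cfsg.Agent.H853.ThC.Local

/-!
# The local conditions at the primes different from 3
-/

set_option autoImplicit false

open scoped ComplexConjugate
open Cfsg

namespace Cfsg.Agent.H853.ThC

universe u

open Cfsg.Agent.Characters

/-- `n` is in the list of orders. -/
def InL (n : ℕ) : Prop := n = 1 ∨ n = 2 ∨ n = 4 ∨ n = 5 ∨ n = 7 ∨ n = 8 ∨ n = 10 ∨ n = 13 ∨
  n = 14 ∨ n = 19 ∨ n = 20 ∨ n = 28 ∨ n = 31

theorem InL.le {n : ℕ} (h : InL n) : n ≤ 31 := by
  unfold InL at h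
  omega

theorem InL.pos {n : ℕ} (h : InL n) : 0 < n := by
  unfold InL at h
  omega

theorem pow_le_of {r i m : ℕ} (h : InL (r ^ i * m)) : r ^ i ≤ 31 := by
  have h1 := h.le
  have h2 := h.pos
  have h3 : 0 < m := Nat.pos_of_mul_pos_left h2 |> fun _ => by
    rcases Nat.eq_zero_or_pos m with h | h
    · rw [h, mul_zero] at h2; omega
    · exact h
  exact (Nat.le_mul_of_pos_right _ h3).trans h1

theorem exp_le {r i : ℕ} (hr : 2 ≤ r) (h : r ^ i ≤ 31) : i ≤ 4 := by
  by_contra hc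
  have h1 : 2 ^ 5 ≤ r ^ i := (Nat.pow_le_pow_left hr 5).trans (Nat.pow_le_pow_right (by omega) (by omega))
  norm_num at h1
  omega

theorem five_L {i m : ℕ} (hi : 1 ≤ i) (h : InL (5 ^ i * m)) :
    (m = 1 ∨ m = 2 ∨ m = 4) ∧ i = 1 := by
  have h1 := exp_le (by norm_num) (pow_le_of h)
  unfold InL at h
  interval_cases i <;> omega

theorem seven_L {i m : ℕ} (hi : 1 ≤ i) (h : InL (7 ^ i * m)) :
    (m = 1 ∨ m = 2 ∨ m = 4) ∧ i = 1 := by
  have h1 := exp_le (by norm_num) (pow_le_of h)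
  unfold InL at h
  interval_cases i <;> omega

theorem thirteen_L {i m : ℕ} (hi : 1 ≤ i) (h : InL (13 ^ i * m)) : m = 1 ∧ i = 1 := by
  have h1 := exp_le (by norm_num) (pow_le_of h)
  unfold InL at h
  interval_cases i <;> omega

theorem nineteen_L {i m : ℕ} (hi : 1 ≤ i) (h : InL (19 ^ i * m)) : m = 1 ∧ i = 1 := by
  have h1 := exp_le (by norm_num) (pow_le_of h)
  unfold InL at h
  interval_cases i <;> omega

theorem thirtyone_L {i m : ℕ} (hi : 1 ≤ i) (h : InL (31 ^ i * m)) : m = 1 ∧ i = 1 := by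
  have h1 := exp_le (by norm_num) (pow_le_of h)
  unfold InL at h
  interval_cases i <;> omega

theorem two_L {i m : ℕ} (hi : 1 ≤ i) (hm : ¬ 2 ∣ m) (h : InL (2 ^ i * m)) :
    (m = 1 ∧ i ≤ 3) ∨ (m = 5 ∧ i ≤ 2) ∨ (m = 7 ∧ i ≤ 2) := by
  have h1 := exp_le (by norm_num) (pow_le_of h)
  unfold InL at h
  interval_cases i <;> omega

theorem three_not_dvd {r i m : ℕ} (hr : r.Prime) (hr3 : r ≠ 3) (hm : ¬ 3 ∣ m) : ¬ 3 ∣ r ^ i * m := by
  intro h
  rcases (Nat.Prime.dvd_mul Nat.prime_three).1 h with h1 | h1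
  · have h2 := Nat.prime_three.dvd_of_dvd_pow h1
    exact hr3 ((Nat.prime_dvd_prime_iff_eq Nat.prime_three hr).1 h2).symm
  · exact hm h1

variable {G : Type u} [Group G] [Finite G] {β : G → ℂ} (h : ThFacts G β) (E : Subgroup G)
  (hE : ∀ e ∈ E, orderOf e ≠ 31)
include h

theorem order_L {r : ℕ} (hr : r.Prime) (hr3 : r ≠ 3) {R : Subgroup E} (hR : IsPGroup r R) {b : E}
    (hb : ∀ a ∈ R, Commute a b) (hrb : ¬ r ∣ orderOf b) (h3 : ¬ 3 ∣ orderOf (b : G)) {a : E}
    (ha : a ∈ R) : ∃ i : ℕ, orderOf ((a * b : E) : G) = r ^ i * orderOf (b : G) ∧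
      (a ≠ 1 → 1 ≤ i) ∧ InL (r ^ i * orderOf (b : G)) := by
  obtain ⟨i, hi, hi1⟩ := order_mul hr hR hb hrb ha
  refine ⟨i, hi, hi1, ?_⟩
  have h1 := h.ordL (g := ((a * b : E) : G)) (by rw [hi]; exact three_not_dvd hr hr3 h3)
  rw [hi] at h1
  exact h1

/-- The restriction of `β` to a subgroup. -/
theorem beta_gen : IsGeneralizedCharacter E (fun e : E => β (e : G)) := by
  obtain ⟨χ, ψ, hχ, hψ, hβ⟩ := h.gen
  refine ⟨_, _, Brauer.isCharacter_restrict hχ E, Brauer.isCharacter_restrict hψ E, ?_⟩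
  rw [hβ]
  rfl

/-- A congruence for `β`. -/
theorem beta_congr {r : ℕ} (hr : r.Prime) {R : Subgroup E} (hR : IsPGroup r R) {b : E}
    (hb : ∀ a ∈ R, Commute a b) {w v : ℤ} (hw : β (b : G) = w)
    (hv : ∀ a ∈ R, a ≠ 1 → β ((a * b : E) : G) = v) (hne : ∃ a ∈ R, a ≠ 1) : (r : ℤ) ∣ w - v := by
  classical
  have : Fact r.Prime := ⟨hr⟩
  have : Fintype R := Fintype.ofFinite _
  have h1 := isIntegral_avg (beta_gen h E) R b hb
  have hne0 : (Nat.card R : ℂ) ≠ 0 := by exact_mod_cast Nat.card_pos.ne'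
  have h2 : (Nat.card R : ℂ)⁻¹ * ∑ a : R, (fun e : E => β (e : G)) (a * b) =
      ((v + (w - v) / (Nat.card R : ℚ) : ℚ) : ℂ) := by
    have h3 : ∀ a : R, (fun e : E => β (e : G)) (a * b) = (v : ℂ) + if a = 1 then (w - v : ℂ) else 0 := by
      intro a
      by_cases ha : a = 1
      · rw [if_pos ha, ha, Subgroup.coe_one, one_mul]
        show β (b : G) = _
        rw [hw]; ring
      · rw [if_neg ha, add_zero]
        exact hv a a.2 (fun h => ha (Subtype.ext h))
    rw [Finset.sum_congr rfl (fun a _ => h3 a), Finset.sum_add_distrib,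
      Finset.sum_ite_eq' Finset.univ (1 : R), if_pos (Finset.mem_univ _), Finset.sum_const,
      Finset.card_univ, ← Nat.card_eq_fintype_card, nsmul_eq_mul, mul_add]
    push_cast
    field_simp
  rw [h2] at h1
  obtain ⟨k, hk⟩ := GaloisBasic.exists_int_of_isIntegral h1 ⟨_, rfl⟩
  have h4 : ((v + (w - v) / (Nat.card R : ℚ) : ℚ)) = k := by exact_mod_cast hk
  have hne1 : (Nat.card R : ℚ) ≠ 0 := by exact_mod_cast Nat.card_pos.ne'
  have h5 : (w - v : ℤ) = (Nat.card R : ℤ) * (k - v) := by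
    have h6 : ((w - v : ℤ) : ℚ) = ((Nat.card R : ℤ) * (k - v) : ℤ) := by
      push_cast
      rw [← h4]
      field_simp
      ring
    exact_mod_cast h6
  rw [h5]
  refine Dvd.dvd.mul_right ?_ _
  obtain ⟨j, hj⟩ := hR.exists_card_eq
  have hj0 : j ≠ 0 := by
    rintro rfl
    rw [pow_zero, Subgroup.card_eq_one] at hj
    obtain ⟨a, ha, ha1⟩ := hne
    rw [hj, Subgroup.mem_bot] at ha
    exact ha1 ha
  rw [hj]
  push_cast
  exact dvd_pow_self _ hj0

omit h in
theorem sq_order {b : G} (hb : orderOf b = 4) : orderOf (b ^ 2) = 2 := by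
  rw [orderOf_pow' b (by norm_num), hb]
  rfl

omit h in
/-- The centralizer of the square. -/
theorem cent_sq_dvd (b : G) :
    Nat.card (Subgroup.centralizer {b}) ∣ Nat.card (Subgroup.centralizer {b ^ 2}) := by
  apply Subgroup.card_dvd_of_le
  intro x hx
  rw [Subgroup.mem_centralizer_singleton_iff] at hx ⊢
  exact (Commute.pow_right (show Commute x b from hx) 2).eq

omit h in
/-- A uniform treatment: nontrivial `R` and the residual data. -/
theorem const_case {R : Subgroup E} [Fintype R] {b : E}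
    (hb : ∀ a ∈ R, Commute a b) (c : ℤ) (N : ℕ) (hN : Nat.card R ∣ N)
    (hval : ∀ a ∈ R, a ≠ 1 → fval β ((a * b : E) : G) = c)
    (hdiv : (N : ℤ) ∣ fval β (b : G) - c) {χ : E → ℂ}
    (hχ : IsCharacter E χ) :
    IsIntegral ℤ ((Nat.card R : ℂ)⁻¹ * ∑ a : R, (fE β E) (a * b) * conj (χ (a * b))) := by
  have h1 : (Nat.card R : ℤ) ∣ fval β (b : G) - c := (by exact_mod_cast hN : (Nat.card R : ℤ) ∣ N).trans hdiv
  obtain ⟨k, hk⟩ := h1
  refine const_int (f := fE β E) R b hb c k (fun a ha ha1 => ?_) ?_ hχ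
  · show ((fval β ((a * b : E) : G) : ℤ) : ℂ) = _
    rw [hval a ha ha1]
  · show ((fval β (b : G) : ℤ) : ℂ) = _
    have h2 : fval β (b : G) = c + Nat.card R * k := by rw [← hk]; ring
    rw [h2]
    push_cast
    ring

theorem loc_five : Loc 5 (fE β E) := by
  refine ⟨1, by norm_num, ?_⟩
  intro R _ b hR hrb hb χ hχ
  rw [Nat.cast_one, one_mul]
  by_cases h3 : 3 ∣ orderOf (b : G)
  · exact sing_int E Nat.prime_five hR hb hrb h3 hχ
  by_cases htr : ∀ a ∈ R, a = 1
  · exact triv_int E hb htr hχ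
  have hord := fun (a : E) (ha : a ∈ R) => order_L h E Nat.prime_five (by norm_num) hR hb hrb h3 ha
  push Not at htr
  obtain ⟨a0, ha0, ha01⟩ := htr
  obtain ⟨i0, hi0, hi01, hL0⟩ := hord a0 ha0
  obtain ⟨hm, -⟩ := five_L (hi01 ha01) hL0
  have hi1 : ∀ a ∈ R, a ≠ 1 → orderOf ((a * b : E) : G) = 5 * orderOf (b : G) := by
    intro a ha ha1
    obtain ⟨i, hi, hi1, hL⟩ := hord a ha
    obtain ⟨-, hi2⟩ := five_L (hi1 ha1) hL
    rw [hi, hi2, pow_one]
  have hdc := card_dvd_cent E R b hb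
  rcases hm with hm | hm | hm
  · refine const_case E hb 12 (5 ^ 3) (card_dvd_pow Nat.prime_five hR hdc
      (card_fac h (by norm_num) _)) (fun a ha ha1 => fval_5 (by rw [hi1 a ha ha1, hm])) ?_ hχ
    rw [fval_1 hm]
    norm_num
  · refine const_case E hb 0 (5 ^ 1) (card_dvd_pow Nat.prime_five hR hdc
      (by simpa using h.d5 _ hm)) (fun a ha ha1 => fval_10 (by rw [hi1 a ha ha1, hm])) ?_ hχ
    rw [fval_2 hm]
    norm_num
  · have hb0 : β (b : G) = 0 := by
      rcases h.b4 _ hm with h1 | h1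
      · exact h1
      · exfalso
        have h2 := beta_congr h E Nat.prime_five hR hb (w := 8) (v := 0) (by rw [h1]; norm_num)
          (fun a ha ha1 => by rw [h.b20 _ (by rw [hi1 a ha ha1, hm])]; norm_num) ⟨a0, ha0, ha01⟩
        norm_num at h2
    refine const_case E hb 2 (5 ^ 1) (card_dvd_pow Nat.prime_five hR hdc
      (fun hd => h.d5 _ (sq_order hm) (hd.trans (cent_sq_dvd _))))
      (fun a ha ha1 => fval_20 (by rw [hi1 a ha ha1, hm])) ?_ hχ
    rw [fval_4b hm hb0]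
    norm_num

theorem loc_seven : Loc 7 (fE β E) := by
  have h7 : Nat.Prime 7 := by norm_num
  refine ⟨1, by norm_num, ?_⟩
  intro R _ b hR hrb hb χ hχ
  rw [Nat.cast_one, one_mul]
  by_cases h3 : 3 ∣ orderOf (b : G)
  · exact sing_int E h7 hR hb hrb h3 hχ
  by_cases htr : ∀ a ∈ R, a = 1
  · exact triv_int E hb htr hχ
  have hord := fun (a : E) (ha : a ∈ R) => order_L h E h7 (by norm_num) hR hb hrb h3 ha
  push Not at htr
  obtain ⟨a0, ha0, ha01⟩ := htr
  obtain ⟨i0, hi0, hi01, hL0⟩ := hord a0 ha0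
  obtain ⟨hm, -⟩ := seven_L (hi01 ha01) hL0
  have hi1 : ∀ a ∈ R, a ≠ 1 → orderOf ((a * b : E) : G) = 7 * orderOf (b : G) := by
    intro a ha ha1
    obtain ⟨i, hi, hi1, hL⟩ := hord a ha
    obtain ⟨-, hi2⟩ := seven_L (hi1 ha1) hL
    rw [hi, hi2, pow_one]
  have hdc := card_dvd_cent E R b hb
  rcases hm with hm | hm | hm
  · refine const_case E hb 3 (7 ^ 2) (card_dvd_pow h7 hR hdc
      (card_fac h (by norm_num) _)) (fun a ha ha1 => fval_7 (by rw [hi1 a ha ha1, hm])) ?_ hχ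
    rw [fval_1 hm]
    norm_num
  · refine const_case E hb (-1) (7 ^ 1) (card_dvd_pow h7 hR hdc
      (by simpa using h.d7 _ hm)) (fun a ha ha1 => fval_14 (by rw [hi1 a ha ha1, hm])) ?_ hχ
    rw [fval_2 hm]
    norm_num
  · have hb0 : β (b : G) = 8 := by
      rcases h.b4 _ hm with h1 | h1
      · exfalso
        have h2 := beta_congr h E h7 hR hb (w := 0) (v := 1) (by rw [h1]; norm_num)
          (fun a ha ha1 => by rw [h.b28 _ (by rw [hi1 a ha ha1, hm])]; norm_num) ⟨a0, ha0, ha01⟩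
        norm_num at h2
      · exact h1
    refine const_case E hb 1 (7 ^ 1) (card_dvd_pow h7 hR hdc
      (fun hd => h.d7 _ (sq_order hm) (hd.trans (cent_sq_dvd _))))
      (fun a ha ha1 => fval_28 (by rw [hi1 a ha ha1, hm])) ?_ hχ
    rw [fval_4a hm hb0]
    norm_num

theorem loc_thirteen : Loc 13 (fE β E) := by
  have h13 : Nat.Prime 13 := by norm_num
  refine ⟨1, by norm_num, ?_⟩
  intro R _ b hR hrb hb χ hχ
  rw [Nat.cast_one, one_mul]
  by_cases h3 : 3 ∣ orderOf (b : G)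
  · exact sing_int E h13 hR hb hrb h3 hχ
  by_cases htr : ∀ a ∈ R, a = 1
  · exact triv_int E hb htr hχ
  have hord := fun (a : E) (ha : a ∈ R) => order_L h E h13 (by norm_num) hR hb hrb h3 ha
  push Not at htr
  obtain ⟨a0, ha0, ha01⟩ := htr
  obtain ⟨i0, hi0, hi01, hL0⟩ := hord a0 ha0
  obtain ⟨hm, -⟩ := thirteen_L (hi01 ha01) hL0
  have hi1 : ∀ a ∈ R, a ≠ 1 → orderOf ((a * b : E) : G) = 13 * orderOf (b : G) := by
    intro a ha ha1
    obtain ⟨i, hi, hi1, hL⟩ := hord a ha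
    obtain ⟨-, hi2⟩ := thirteen_L (hi1 ha1) hL
    rw [hi, hi2, pow_one]
  refine const_case E hb 0 (13 ^ 1) (card_dvd_pow h13 hR (card_dvd_cent E R b hb)
      (card_fac h (by norm_num) _)) (fun a ha ha1 => fval_13 (by rw [hi1 a ha ha1, hm])) ?_ hχ
  rw [fval_1 hm]
  norm_num

theorem loc_nineteen : Loc 19 (fE β E) := by
  have h19 : Nat.Prime 19 := by norm_num
  refine ⟨1, by norm_num, ?_⟩
  intro R _ b hR hrb hb χ hχ
  rw [Nat.cast_one, one_mul]
  by_cases h3 : 3 ∣ orderOf (b : G)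
  · exact sing_int E h19 hR hb hrb h3 hχ
  by_cases htr : ∀ a ∈ R, a = 1
  · exact triv_int E hb htr hχ
  have hord := fun (a : E) (ha : a ∈ R) => order_L h E h19 (by norm_num) hR hb hrb h3 ha
  push Not at htr
  obtain ⟨a0, ha0, ha01⟩ := htr
  obtain ⟨i0, hi0, hi01, hL0⟩ := hord a0 ha0
  obtain ⟨hm, -⟩ := nineteen_L (hi01 ha01) hL0
  have hi1 : ∀ a ∈ R, a ≠ 1 → orderOf ((a * b : E) : G) = 19 * orderOf (b : G) := by
    intro a ha ha1
    obtain ⟨i, hi, hi1, hL⟩ := hord a ha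
    obtain ⟨-, hi2⟩ := nineteen_L (hi1 ha1) hL
    rw [hi, hi2, pow_one]
  refine const_case E hb (-1) (19 ^ 1) (card_dvd_pow h19 hR (card_dvd_cent E R b hb)
      (card_fac h (by norm_num) _)) (fun a ha ha1 => fval_19 (by rw [hi1 a ha ha1, hm])) ?_ hχ
  rw [fval_1 hm]
  norm_num

include hE in
theorem loc_thirtyone : Loc 31 (fE β E) := by
  have h31 : Nat.Prime 31 := by norm_num
  refine ⟨1, by norm_num, ?_⟩
  intro R _ b hR hrb hb χ hχ
  rw [Nat.cast_one, one_mul]
  by_cases h3 : 3 ∣ orderOf (b : G)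
  · exact sing_int E h31 hR hb hrb h3 hχ
  by_cases htr : ∀ a ∈ R, a = 1
  · exact triv_int E hb htr hχ
  exfalso
  have hord := fun (a : E) (ha : a ∈ R) => order_L h E h31 (by norm_num) hR hb hrb h3 ha
  push Not at htr
  obtain ⟨a0, ha0, ha01⟩ := htr
  obtain ⟨i0, hi0, hi01, hL0⟩ := hord a0 ha0
  obtain ⟨hm, hi⟩ := thirtyone_L (hi01 ha01) hL0
  refine hE ((a0 * b : E) : G) (a0 * b).2 ?_
  rw [hi0, hm, hi]
  norm_num

theorem loc_other {r : ℕ} (hr : r.Prime) (hn : ¬ r ∣ 90745943887872000) : Loc r (fE β E) := by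
  refine ⟨1, Nat.coprime_one_left r, ?_⟩
  intro R _ b hR hrb hb χ hχ
  rw [Nat.cast_one, one_mul]
  have h1 : Nat.card R ∣ r ^ 0 := card_dvd_pow hr hR (card_dvd_cent E R b hb)
    (fun hd => hn (by
      rw [← h.card]
      rw [zero_add, pow_one] at hd
      exact hd.trans (Subgroup.card_subgroup_dvd_card _)))
  rw [pow_zero, Nat.dvd_one, Subgroup.card_eq_one] at h1
  exact triv_int E hb (fun a ha => by rwa [h1, Subgroup.mem_bot] at ha) hχ

/-- The polynomial on 2-elements. -/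
theorem poly_one {g : G} {i : ℕ} (hi : orderOf g = 2 ^ i) (hi3 : i ≤ 3) :
    155 * (fval β g : ℂ) = 6 * β g ^ 3 + 465 * β g ^ 2 - 4569 * β g - 465 := by
  interval_cases i
  · rw [pow_zero] at hi
    rw [fval_1 hi, orderOf_eq_one_iff.1 hi, h.b1]
    norm_num
  · rw [pow_one] at hi
    rw [fval_2 hi, h.b2 g hi]
    norm_num
  · norm_num at hi
    rcases h.b4 g hi with h1 | h1
    · rw [fval_4b hi h1, h1]
      norm_num
    · rw [fval_4a hi h1, h1]
      norm_num
  · norm_num at hi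
    rw [fval_8 hi, h.b8 g hi]
    norm_num

theorem poly_five {g : G} {i : ℕ} (hi : orderOf g = 2 ^ i * 5) (hi3 : i ≤ 2) :
    155 * (fval β g : ℂ) = 155 * (β g ^ 2 - 3 * β g + 2) := by
  interval_cases i
  · norm_num at hi
    rw [fval_5 hi, h.b5 g hi]
    norm_num
  · norm_num at hi
    rw [fval_10 hi, h.b10 g hi]
    norm_num
  · norm_num at hi
    rw [fval_20 hi, h.b20 g hi]
    norm_num

theorem poly_seven {g : G} {i : ℕ} (hi : orderOf g = 2 ^ i * 7) (hi3 : i ≤ 2) :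
    155 * (fval β g : ℂ) = 155 * β g := by
  interval_cases i
  · norm_num at hi
    rw [fval_7 hi, h.b7 g hi]
    norm_num
  · norm_num at hi
    rw [fval_14 hi, h.b14 g hi]
    norm_num
  · norm_num at hi
    rw [fval_28 hi, h.b28 g hi]
    norm_num

omit h in
/-- Generalized characters: integral multiples. -/
theorem gen_zsmul {H : Type u} [Group H] {χ : H → ℂ} (n : ℤ) (hχ : IsGeneralizedCharacter H χ) :
    IsGeneralizedCharacter H (fun x => (n : ℂ) * χ x) := by
  have h1 : ∀ m : ℕ, IsGeneralizedCharacter H (fun x => (m : ℂ) * χ x) := by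
    intro m
    obtain ⟨φ, ψ, hφ, hψ, rfl⟩ := hχ
    refine ⟨_, _, Core.isCharacter_nsmul m hφ, Core.isCharacter_nsmul m hψ, ?_⟩
    funext x
    show (m : ℂ) * (φ x - ψ x) = (m • φ - m • ψ) x
    simp [mul_sub]
  obtain ⟨m, rfl | rfl⟩ := n.eq_nat_or_neg
  · simpa using h1 m
  · have := Brauer.isGeneralizedCharacter_neg (h1 m)
    convert this using 1
    funext x
    simp

omit h in
theorem gen_const {H : Type u} [Group H] (n : ℤ) : IsGeneralizedCharacter H (fun _ => (n : ℂ)) := by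
  have := gen_zsmul (H := H) n (Brauer.isGeneralizedCharacter_of_isCharacter Core.isCharacter_one)
  simpa using this

omit h in
theorem gen_cubic {H : Type u} [Group H] {χ : H → ℂ} (hχ : IsGeneralizedCharacter H χ)
    (a b c d : ℤ) :
    IsGeneralizedCharacter H (fun x => (a : ℂ) * χ x ^ 3 + b * χ x ^ 2 + c * χ x + d) := by
  have h2 := Brauer.isGeneralizedCharacter_mul hχ hχ
  have h3 := Brauer.isGeneralizedCharacter_mul h2 hχ
  have := Brauer.isGeneralizedCharacter_add (Brauer.isGeneralizedCharacter_add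
    (Brauer.isGeneralizedCharacter_add (gen_zsmul a h3) (gen_zsmul b h2)) (gen_zsmul c hχ))
    (gen_const d)
  convert this using 1
  funext x
  simp only [Pi.add_apply, Pi.mul_apply]
  ring

theorem loc_two (hE : ∀ e ∈ E, orderOf e ≠ 31) : Loc 2 (fE β E) := by
  refine ⟨155, by norm_num, ?_⟩
  intro R _ b hR hrb hb χ hχ
  have h155 : IsIntegral ℤ ((155 : ℕ) : ℂ) := by
    have := isIntegral_int 155
    simpa using this
  by_cases h3 : 3 ∣ orderOf (b : G)
  · exact h155.mul (sing_int E Nat.prime_two hR hb hrb h3 hχ)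
  by_cases htr : ∀ a ∈ R, a = 1
  · exact h155.mul (triv_int E hb htr hχ)
  have hord := fun (a : E) (ha : a ∈ R) => order_L h E Nat.prime_two (by norm_num) hR hb hrb h3 ha
  push Not at htr
  obtain ⟨a0, ha0, ha01⟩ := htr
  obtain ⟨i0, hi0, hi01, hL0⟩ := hord a0 ha0
  have h2b : ¬ 2 ∣ orderOf (b : G) := by rwa [Subgroup.orderOf_coe]
  have hcase := two_L (hi01 ha01) h2b hL0
  have hm : orderOf (b : G) = 1 ∨ orderOf (b : G) = 5 ∨ orderOf (b : G) = 7 := by
    rcases hcase with h4 | h4 | h4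
    · exact Or.inl h4.1
    · exact Or.inr (Or.inl h4.1)
    · exact Or.inr (Or.inr h4.1)
  have hi1 : ∀ a ∈ R, ∃ i, orderOf ((a * b : E) : G) = 2 ^ i * orderOf (b : G) ∧
      i ≤ 3 ∧ (orderOf (b : G) ≠ 1 → i ≤ 2) := by
    intro a ha
    obtain ⟨i, hi, hi1, hL⟩ := hord a ha
    refine ⟨i, hi, ?_⟩
    rcases Nat.eq_zero_or_pos i with h0 | h0
    · omega
    · have := two_L h0 h2b hL
      omega
  have hgen := beta_gen h E
  rcases hm with hm | hm | hm
  · refine gen_int R b hb (gen_cubic hgen 6 465 (-4569) (-465)) ((155 : ℕ) : ℂ) (fun a ha => ?_) hχ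
    obtain ⟨i, hi, hi3, -⟩ := hi1 a ha
    rw [hm, mul_one] at hi
    have := poly_one h hi hi3
    show ((155 : ℕ) : ℂ) * (fval β ((a * b : E) : G) : ℂ) = _
    push_cast at this ⊢
    linear_combination this
  · refine gen_int R b hb (gen_cubic hgen 0 155 (-465) 310) ((155 : ℕ) : ℂ) (fun a ha => ?_) hχ
    obtain ⟨i, hi, -, hi3⟩ := hi1 a ha
    have hi4 := hi3 (by rw [hm]; norm_num)
    rw [hm] at hi
    have := poly_five h hi hi4
    show ((155 : ℕ) : ℂ) * (fval β ((a * b : E) : G) : ℂ) = _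
    push_cast at this ⊢
    linear_combination this
  · refine gen_int R b hb (gen_cubic hgen 0 0 155 0) ((155 : ℕ) : ℂ) (fun a ha => ?_) hχ
    obtain ⟨i, hi, -, hi3⟩ := hi1 a ha
    have hi4 := hi3 (by rw [hm]; norm_num)
    rw [hm] at hi
    have := poly_seven h hi hi4
    show ((155 : ℕ) : ℂ) * (fval β ((a * b : E) : G) : ℂ) = _
    push_cast at this ⊢
    linear_combination this

include hE in
/-- All local conditions. -/
theorem loc_all {r : ℕ} (hr : r.Prime) : Loc r (fE β E) := by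
  by_cases hn : r ∣ 90745943887872000
  · have h1 : (90745943887872000 : ℕ) = 2 ^ 15 * 3 ^ 10 * 5 ^ 3 * 7 ^ 2 * 13 * 19 * 31 := by norm_num
    rw [h1] at hn
    simp only [Nat.Prime.dvd_mul hr] at hn
    have h2 : ∀ {q k : ℕ}, q.Prime → r ∣ q ^ k → r = q := fun hq hd =>
      (Nat.prime_dvd_prime_iff_eq hr hq).1 (hr.dvd_of_dvd_pow hd)
    have h3 : ∀ {q : ℕ}, q.Prime → r ∣ q → r = q := fun hq hd =>
      (Nat.prime_dvd_prime_iff_eq hr hq).1 hd
    rcases hn with (((((hn | hn) | hn) | hn) | hn) | hn) | hn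
    · rw [h2 Nat.prime_two hn]
      exact loc_two h E hE
    · rw [h2 Nat.prime_three hn]
      exact loc_three h E hE
    · rw [h2 Nat.prime_five hn]
      exact loc_five h E
    · rw [h2 (by norm_num) hn]
      exact loc_seven h E
    · rw [h3 (by norm_num) hn]
      exact loc_thirteen h E
    · rw [h3 (by norm_num) hn]
      exact loc_nineteen h E
    · rw [h3 (by norm_num) hn]
      exact loc_thirtyone h E hE
  · exact loc_other h E hr hn

end Cfsg.Agent.H853.ThC
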