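import Cfsg.Agent.H853.ThC.Cyc
import Cfsg.Agent.H853.ThC.LocalB

/-!
# The class function is a generalized character
-/

set_option autoImplicit false

open scoped ComplexConjugate
open Cfsg

namespace Cfsg.Agent.H853.ThC

universe u

open Cfsg.Agent.Characters

variable {G : Type u} [Group G] [Finite G] {β : G → ℂ} (h : ThFacts G β)
include h

theorem fac31 : (Nat.card G).factorization 31 = 1 := by
  have h31 : Nat.Prime 31 := by norm_num
  rw [h.card]
  have h1 : (90745943887872000 : ℕ) = 31 * 2927288512512000 := by norm_num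
  rw [h1, Nat.factorization_mul (by norm_num) (by norm_num), Finsupp.add_apply,
    h31.factorization_self, Nat.factorization_eq_zero_of_not_dvd (by norm_num)]

theorem card_of_31 (E : Subgroup G) [Group.IsNilpotent E] {e0 : E} (he0 : orderOf (e0 : G) = 31) :
    Nat.card E = 31 := by
  have h31 : Nat.Prime 31 := by norm_num
  have : Fact (Nat.Prime 31) := ⟨h31⟩
  obtain ⟨A, B, hA, hB, ⟨e⟩⟩ := H651.exists_prod_of_nilpotent (E := E) 31
  obtain ⟨⟨a0, b0⟩, hab⟩ := e.surjective e0
  have he0' : orderOf e0 = 31 := by rwa [← Subgroup.orderOf_coe]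
  have hb0 : b0 = 1 := by
    have h1 : (a0, b0) ^ 31 = (1 : A × B) := by
      apply e.injective
      rw [map_pow, hab, map_one, ← he0', pow_orderOf_eq_one]
    have h2 : b0 ^ 31 = 1 := (Prod.ext_iff.1 h1).2
    have h3 : orderOf b0 ∣ 31 := orderOf_dvd_of_pow_eq_one h2
    rcases (Nat.dvd_prime h31).1 h3 with h4 | h4
    · exact orderOf_eq_one_iff.1 h4
    · exact absurd (h4 ▸ orderOf_dvd_natCard b0) hB
  have ha0 : orderOf a0 = 31 := by
    rw [← he0', ← hab, hb0, MulEquiv.orderOf_eq]
    exact (orderOf_injective (MonoidHom.inl A B) (fun x y hxy => (Prod.ext_iff.1 hxy).1) a0).symm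
  have hBtriv : ∀ b : B, b = 1 := by
    intro b
    have hcomm : Commute e0 (e (1, b)) := by
      show e0 * e (1, b) = e (1, b) * e0
      rw [← hab, hb0, ← map_mul, ← map_mul, Prod.mk_mul_mk, Prod.mk_mul_mk, one_mul, mul_one,
        one_mul, mul_one]
    have hord : orderOf (e (1, b)) = orderOf b := by
      rw [MulEquiv.orderOf_eq]
      exact orderOf_injective (MonoidHom.inr A B) (fun x y hxy => (Prod.ext_iff.1 hxy).2) b
    have hcop : Nat.Coprime 31 (orderOf b) := (Nat.Prime.coprime_iff_not_dvd h31).2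
      fun hd => hB (hd.trans (orderOf_dvd_natCard b))
    have hmul : orderOf ((e0 * e (1, b) : E) : G) = 31 * orderOf b := by
      rw [Subgroup.orderOf_coe, hcomm.orderOf_mul_eq_mul_orderOf_of_coprime (by rw [he0', hord]; exact hcop),
        he0', hord]
    by_cases h3 : 3 ∣ orderOf b
    · exfalso
      apply h.c31 _ he0
      have h4 : ((e (1, b) : E) : G) ∈ Subgroup.centralizer {(e0 : G)} := by
        rw [Subgroup.mem_centralizer_singleton_iff]
        have := congrArg E.subtype hcomm.eq
        rw [map_mul, map_mul] at this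
        exact this.symm
      have h5 : orderOf (⟨_, h4⟩ : Subgroup.centralizer {(e0 : G)}) = orderOf b := by
        rw [← hord, ← Subgroup.orderOf_coe, ← Subgroup.orderOf_coe]
      exact (h5 ▸ h3).trans (orderOf_dvd_natCard _)
    · have h4 : ¬ 3 ∣ orderOf ((e0 * e (1, b) : E) : G) := by
        rw [hmul]
        intro hd
        rcases (Nat.Prime.dvd_mul Nat.prime_three).1 hd with h5 | h5
        · norm_num at h5
        · exact h3 h5
      have h5 := h.ordL h4
      rw [hmul] at h5
      have h6 : orderOf b = 1 := by omega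
      exact orderOf_eq_one_iff.1 h6
  have hcB : Nat.card B = 1 := by
    rw [Subgroup.card_eq_one, Subgroup.eq_bot_iff_forall]
    intro x hx
    exact congrArg Subtype.val (hBtriv ⟨x, hx⟩)
  have hcard : Nat.card E = Nat.card A := by
    rw [← Nat.card_congr e.toEquiv, Nat.card_prod, hcB, mul_one]
  obtain ⟨j, hj⟩ := hA.exists_card_eq
  have h1 : Nat.card E ∣ 90745943887872000 := by
    rw [← h.card]
    exact Subgroup.card_subgroup_dvd_card E
  have h2 : j ≤ 1 := by
    by_contra hc
    have h3 : 31 ^ 2 ∣ 90745943887872000 := by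
      refine (pow_dvd_pow 31 (by omega : 2 ≤ j)).trans ?_
      rw [← hj, ← hcard]
      exact h1
    norm_num at h3
  have h3 : 1 ≤ j := by
    by_contra hc
    have h4 : j = 0 := by omega
    rw [h4, pow_zero] at hj
    have h5 := orderOf_dvd_natCard a0
    rw [hj, ha0] at h5
    norm_num at h5
  have h4 : j = 1 := by omega
  rw [hcard, hj, h4, pow_one]

theorem beta_conj4 {g : G} (hg : orderOf g = 4) : β g⁻¹ = β g := by
  rw [gen_inv h.gen g]
  rcases h.b4 g hg with h1 | h1 <;> rw [h1]
  · exact map_zero _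
  · exact map_ofNat _ 8

theorem fval_pow {g : G} {m : ℕ} (hm : m.Coprime (orderOf g)) : fval β (g ^ m) = fval β g := by
  have h1 : orderOf (g ^ m) = orderOf g := Nat.Coprime.orderOf_pow hm.symm
  have h2 : orderOf g = 4 → β (g ^ m) = β g := by
    intro h4
    rw [← pow_mod_orderOf, h4]
    rw [h4] at hm
    have h5 : m % 4 = 1 ∨ m % 4 = 3 := by
      have h6 : ¬ 2 ∣ m := fun hd => by
        have := Nat.dvd_gcd hd (by norm_num : 2 ∣ 4)
        rw [hm] at this
        norm_num at this
      omega
    rcases h5 with h5 | h5 <;> rw [h5]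
    · rw [pow_one]
    · have h6 : g ^ 3 = g⁻¹ := by
        rw [eq_inv_iff_mul_eq_one, ← pow_succ]
        exact orderOf_dvd_iff_pow_eq_one.1 (by rw [h4])
      rw [h6, beta_conj4 h h4]
  unfold fval
  rw [h1]
  by_cases h4 : orderOf g = 4
  · rw [h2 h4]
  · simp only [if_neg h4]

theorem gen_F {y : G} (hy : orderOf y = 31) : IsGeneralizedCharacter G (F β y) := by
  refine Brauer.brauer_characterization _ (F_class (gen_class h.gen) y) fun E p hp hel => ?_
  have hnil : Group.IsNilpotent E := H651.isNilpotent_of_isElementary hp hel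
  by_cases hE : ∃ e : E, orderOf (e : G) = 31
  · obtain ⟨e0, he0⟩ := hE
    have hcard := card_of_31 h E he0
    have he0' : orderOf e0 = 31 := by rwa [← Subgroup.orderOf_coe]
    obtain ⟨k0, hk0, hc⟩ := exists_conj (fac31 h) hy he0
    have : Fact (Nat.Prime 31) := ⟨by norm_num⟩
    refine gen31 hcard he0' k0 ?_ ?_
    · show F β y (1 : G) = 767637
      unfold F
      rw [if_neg (by rw [orderOf_one]; norm_num), fval_1 orderOf_one]
      norm_num
    · intro j hj
      show F β y ((e0 ^ j.val : E) : G) = _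
      refine F_pow hy (fun g => h.nr31 y g hy) (mul_ne_zero hj hk0) ?_
      rw [mul_comm, pow_val_mul hy, Subgroup.coe_pow]
      obtain ⟨c, hc⟩ := isConj_iff.1 hc
      refine isConj_iff.2 ⟨c, ?_⟩
      rw [← hc, conj_pow]
  · push Not at hE
    have hE' : ∀ e ∈ E, orderOf e ≠ 31 := fun e he => hE ⟨e, he⟩
    have h1 : (fun e : E => F β y (e : G)) = fE β E := by
      funext e
      unfold F fE
      rw [if_neg (hE e)]
    rw [h1]
    refine isGeneralizedCharacter_of_loc ?_ (fun e => ⟨_, rfl⟩) ?_ fun r hr => loc_all h E hE' hr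
    · intro g k
      show ((fval β ((k * g * k⁻¹ : E) : G) : ℤ) : ℂ) = ((fval β (g : G) : ℤ) : ℂ)
      have : ((k * g * k⁻¹ : E) : G) = (k : G) * g * (k : G)⁻¹ := rfl
      rw [this, fval_conj (gen_class h.gen)]
    · intro m hm e
      show ((fval β ((e ^ m : E) : G) : ℤ) : ℂ) = ((fval β (e : G) : ℤ) : ℂ)
      rw [Subgroup.coe_pow, fval_pow h]
      rw [Subgroup.orderOf_coe]
      exact Nat.Coprime.coprime_dvd_right (orderOf_dvd_natCard e) hm

end Cfsg.Agent.H853.ThC
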