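import Cfsg.Agent.H853.ThC.Fun

/-!
# The local conditions
-/

set_option autoImplicit false

open scoped ComplexConjugate
open Cfsg

namespace Cfsg.Agent.H853.ThC

universe u

open Cfsg.Agent.Characters

theorem isIntegral_int (k : ℤ) : IsIntegral ℤ (k : ℂ) := by
  simpa using isIntegral_algebraMap (R := ℤ) (A := ℂ) (x := k)

section gen

variable {E : Type u} [Group E] [Finite E] {f : E → ℂ} (R : Subgroup E) [Fintype R] (b : E)
  (hb : ∀ a ∈ R, Commute a b)
include hb

theorem gen_int {φ : E → ℂ} (hφ : IsGeneralizedCharacter E φ) (n : ℂ)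
    (h : ∀ a ∈ R, n * f (a * b) = φ (a * b)) {χ : E → ℂ} (hχ : IsCharacter E χ) :
    IsIntegral ℤ (n * ((Nat.card R : ℂ)⁻¹ * ∑ a : R, f (a * b) * conj (χ (a * b)))) := by
  have h1 := isIntegral_avg (Brauer.isGeneralizedCharacter_mul hφ
    (Brauer.isGeneralizedCharacter_of_isCharacter (Core.isCharacter_conj hχ))) R b hb
  have h2 : n * ((Nat.card R : ℂ)⁻¹ * ∑ a : R, f (a * b) * conj (χ (a * b))) =
      (Nat.card R : ℂ)⁻¹ * ∑ a : R, (φ * fun g => conj (χ g)) ((a : E) * b) := by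
    rw [mul_left_comm, Finset.mul_sum]
    congr 1
    refine Finset.sum_congr rfl fun a _ => ?_
    rw [← mul_assoc, h a a.2]
    rfl
  rw [h2]
  exact h1

theorem const_int (c k : ℤ) (h : ∀ a ∈ R, a ≠ 1 → f (a * b) = c)
    (h1 : f b = c + (Nat.card R : ℂ) * k) {χ : E → ℂ} (hχ : IsCharacter E χ) :
    IsIntegral ℤ ((Nat.card R : ℂ)⁻¹ * ∑ a : R, f (a * b) * conj (χ (a * b))) := by
  classical
  have hχc := Core.isCharacter_conj hχ
  have h2 := isIntegral_avg (Brauer.isGeneralizedCharacter_of_isCharacter hχc) R b hb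
  have hne : (Nat.card R : ℂ) ≠ 0 := by exact_mod_cast Nat.card_pos.ne'
  have h3 : (Nat.card R : ℂ)⁻¹ * ∑ a : R, f (a * b) * conj (χ (a * b)) =
      c * ((Nat.card R : ℂ)⁻¹ * ∑ a : R, (fun g => conj (χ g)) ((a : E) * b)) +
      k * conj (χ b) := by
    have h4 : ∀ a : R, f (a * b) * conj (χ (a * b)) = c * conj (χ (a * b)) +
        if a = 1 then (Nat.card R : ℂ) * k * conj (χ b) else 0 := by
      intro a
      by_cases ha : a = 1
      · rw [if_pos ha, ha, Subgroup.coe_one, one_mul, h1]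
        ring
      · rw [if_neg ha, add_zero, h a a.2 (fun h => ha (Subtype.ext h))]
    rw [Finset.sum_congr rfl (fun a _ => h4 a), Finset.sum_add_distrib, ← Finset.mul_sum,
      Finset.sum_ite_eq' Finset.univ (1 : R), if_pos (Finset.mem_univ _), mul_add]
    field_simp
  rw [h3]
  refine IsIntegral.add (IsIntegral.mul (isIntegral_int c) h2) (IsIntegral.mul (isIntegral_int k) ?_)
  exact GaloisBasic.isIntegral_apply hχc b

end gen

variable {G : Type u} [Group G] [Finite G]

omit [Finite G] in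
theorem card_dvd_cent (E : Subgroup G) (R : Subgroup E) (b : E) (hb : ∀ a ∈ R, Commute a b) :
    Nat.card R ∣ Nat.card (Subgroup.centralizer {(b : G)}) := by
  have h1 : Nat.card (R.map E.subtype) = Nat.card R :=
    Nat.card_congr (R.equivMapOfInjective E.subtype E.subtype_injective).toEquiv.symm
  rw [← h1]
  apply Subgroup.card_dvd_of_le
  rintro _ ⟨a, ha, rfl⟩
  rw [Subgroup.mem_centralizer_singleton_iff]
  have := congrArg E.subtype (hb a ha).eq
  rw [map_mul, map_mul] at this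
  exact this

theorem card_dvd_pow {E : Subgroup G} {R : Subgroup E} {r : ℕ} (hr : r.Prime) (hR : IsPGroup r R)
    {n : ℕ} (h : Nat.card R ∣ n) {k : ℕ} (hn : ¬ r ^ (k + 1) ∣ n) : Nat.card R ∣ r ^ k := by
  have : Fact r.Prime := ⟨hr⟩
  obtain ⟨j, hj⟩ := hR.exists_card_eq
  rw [hj] at h ⊢
  apply pow_dvd_pow
  by_contra hc
  exact hn ((pow_dvd_pow r (by omega)).trans h)

theorem order_mul {E : Subgroup G} {R : Subgroup E} {r : ℕ} (hr : r.Prime) (hR : IsPGroup r R)
    {b : E} (hb : ∀ a ∈ R, Commute a b) (hrb : ¬ r ∣ orderOf b) {a : E} (ha : a ∈ R) :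
    ∃ i : ℕ, orderOf ((a * b : E) : G) = r ^ i * orderOf (b : G) ∧ (a ≠ 1 → 1 ≤ i) := by
  have : Fact r.Prime := ⟨hr⟩
  obtain ⟨i, hi⟩ := (IsPGroup.iff_orderOf.1 hR) ⟨a, ha⟩
  have hi' : orderOf a = r ^ i := (Subgroup.orderOf_coe (⟨a, ha⟩ : R)).trans hi
  refine ⟨i, ?_, ?_⟩
  · rw [Subgroup.orderOf_coe, Subgroup.orderOf_coe, ← hi']
    refine Commute.orderOf_mul_eq_mul_orderOf_of_coprime (hb a ha) ?_
    rw [hi']
    exact Nat.Coprime.pow_left i ((Nat.Prime.coprime_iff_not_dvd hr).2 hrb)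
  · intro ha1
    by_contra hc
    have h0 : i = 0 := by omega
    rw [h0, pow_zero, orderOf_eq_one_iff] at hi'
    exact ha1 hi'

/-- The orders of the 3-regular elements. -/
theorem ThFacts.ordL {β : G → ℂ} (h : ThFacts G β) {g : G} (hg : ¬ 3 ∣ orderOf g) :
    orderOf g = 1 ∨ orderOf g = 2 ∨ orderOf g = 4 ∨ orderOf g = 5 ∨ orderOf g = 7 ∨
    orderOf g = 8 ∨ orderOf g = 10 ∨ orderOf g = 13 ∨ orderOf g = 14 ∨ orderOf g = 19 ∨
    orderOf g = 20 ∨ orderOf g = 28 ∨ orderOf g = 31 := by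
  have := h.ord g hg
  simpa using this

section fv

variable {β : G → ℂ} {g : G}
omit [Finite G]

theorem fval_three (h : 3 ∣ orderOf g) : fval β g = 0 := by
  unfold fval; rw [if_pos h]
theorem fval_1 (h : orderOf g = 1) : fval β g = 767637 := by
  unfold fval; simp [h]
theorem fval_2 (h : orderOf g = 2) : fval β g = 405 := by
  unfold fval; simp [h]
theorem fval_4a (h : orderOf g = 4) (h' : β g = 8) : fval β g = -27 := by
  unfold fval; simp [h, h']
theorem fval_4b (h : orderOf g = 4) (h' : β g = 0) : fval β g = -3 := by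
  unfold fval; simp [h, h']
theorem fval_8 (h : orderOf g = 8) : fval β g = -3 := by
  unfold fval; simp [h]
theorem fval_5 (h : orderOf g = 5) : fval β g = 12 := by
  unfold fval; simp [h]
theorem fval_7 (h : orderOf g = 7) : fval β g = 3 := by
  unfold fval; simp [h]
theorem fval_14 (h : orderOf g = 14) : fval β g = -1 := by
  unfold fval; simp [h]
theorem fval_19 (h : orderOf g = 19) : fval β g = -1 := by
  unfold fval; simp [h]
theorem fval_20 (h : orderOf g = 20) : fval β g = 2 := by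
  unfold fval; simp [h]
theorem fval_28 (h : orderOf g = 28) : fval β g = 1 := by
  unfold fval; simp [h]
theorem fval_10 (h : orderOf g = 10) : fval β g = 0 := by
  unfold fval; simp [h]
theorem fval_13 (h : orderOf g = 13) : fval β g = 0 := by
  unfold fval; simp [h]

end fv

/-- The restriction of the integral part. -/
noncomputable def fE (β : G → ℂ) (E : Subgroup G) (e : E) : ℂ := (fval β (e : G) : ℂ)

variable {β : G → ℂ} (h : ThFacts G β) (E : Subgroup G) (hE : ∀ e ∈ E, orderOf e ≠ 31)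
include h hE

omit hE in
theorem card_fac {r k : ℕ} (hn : ¬ r ^ (k + 1) ∣ 90745943887872000) (b : G) :
    ¬ r ^ (k + 1) ∣ Nat.card (Subgroup.centralizer {b}) := fun hd =>
  hn (by rw [← h.card]; exact hd.trans (Subgroup.card_subgroup_dvd_card _))

/-- The local condition at 3. -/
theorem loc_three : Loc 3 (fE β E) := by
  refine ⟨1, by norm_num, ?_⟩
  intro R _ b hR hrb hb χ hχ
  rw [Nat.cast_one, one_mul]
  have hord : ¬ 3 ∣ orderOf (b : G) := by rwa [Subgroup.orderOf_coe]
  have hd := card_dvd_cent E R b hb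
  have hkey : ∀ k : ℕ, ¬ 3 ^ (k + 1) ∣ Nat.card (Subgroup.centralizer {(b : G)}) →
      (Nat.card R : ℤ) ∣ 3 ^ k := by
    intro k hk
    have := card_dvd_pow Nat.prime_three hR hd hk
    exact_mod_cast this
  have hdiv : (Nat.card R : ℤ) ∣ fval β (b : G) := by
    rcases h.ordL hord with h1 | h1 | h1 | h1 | h1 | h1 | h1 | h1 | h1 | h1 | h1 | h1 | h1
    · rw [fval_1 h1]
      exact (hkey 10 (card_fac h (by norm_num) _)).trans (by norm_num)
    · rw [fval_2 h1]
      exact (hkey 4 (h.c2 _ h1)).trans (by norm_num)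
    · rcases h.b4 _ h1 with h2 | h2
      · rw [fval_4b h1 h2]
        exact (hkey 1 (h.c4b _ h1 h2)).trans (by norm_num)
      · rw [fval_4a h1 h2]
        exact (hkey 3 (h.c4a _ h1 h2)).trans (by norm_num)
    · rw [fval_5 h1]
      exact (hkey 1 (h.c5 _ h1)).trans (by norm_num)
    · rw [fval_7 h1]
      exact (hkey 1 (h.c7 _ h1)).trans (by norm_num)
    · rw [fval_8 h1]
      exact (hkey 1 (h.c8 _ h1)).trans (by norm_num)
    · rw [fval_10 h1]
      exact dvd_zero _
    · rw [fval_13 h1]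
      exact dvd_zero _
    · exact (hkey 0 (by simpa using h.c14 _ h1)).trans (one_dvd _)
    · exact (hkey 0 (by simpa using h.c19 _ h1)).trans (one_dvd _)
    · exact (hkey 0 (by simpa using h.c20 _ h1)).trans (one_dvd _)
    · exact (hkey 0 (by simpa using h.c28 _ h1)).trans (one_dvd _)
    · exact absurd h1 (hE b b.2)
  obtain ⟨k, hk⟩ := hdiv
  refine const_int (f := fE β E) R b hb 0 k ?_ ?_ hχ
  · intro a ha ha1
    obtain ⟨i, hi, hi1⟩ := order_mul Nat.prime_three hR hb hrb ha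
    have h3 : 3 ∣ orderOf ((a * b : E) : G) := by
      rw [hi]
      exact Dvd.dvd.mul_right (dvd_pow_self 3 (by have := hi1 ha1; omega)) _
    show ((fval β ((a * b : E) : G) : ℤ) : ℂ) = ((0 : ℤ) : ℂ)
    rw [fval_three h3]
  · show ((fval β (b : G) : ℤ) : ℂ) = _
    rw [hk]
    push_cast
    ring

omit h hE in
/-- The case of a trivial subgroup. -/
theorem triv_int {R : Subgroup E} [Fintype R] {b : E} (hb : ∀ a ∈ R, Commute a b)
    (hR : ∀ a ∈ R, a = 1) {χ : E → ℂ} (hχ : IsCharacter E χ) :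
    IsIntegral ℤ ((Nat.card R : ℂ)⁻¹ * ∑ a : R, (fE β E) (a * b) *
      conj (χ (a * b))) := by
  have hcard : Nat.card R = 1 := by
    rw [Subgroup.card_eq_one, Subgroup.eq_bot_iff_forall]
    exact hR
  refine const_int (f := fE β E) R b hb 0 (fval β (b : G)) (fun a ha ha1 => absurd (hR a ha) ha1) ?_ hχ
  rw [hcard]
  simp [fE]

omit h hE in
/-- The case of a 3-singular element. -/
theorem sing_int {r : ℕ} (hr : r.Prime) {R : Subgroup E} [Fintype R] (hR : IsPGroup r R) {b : E}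
    (hb : ∀ a ∈ R, Commute a b) (hrb : ¬ r ∣ orderOf b) (h3 : 3 ∣ orderOf (b : G)) {χ : E → ℂ}
    (hχ : IsCharacter E χ) :
    IsIntegral ℤ ((Nat.card R : ℂ)⁻¹ * ∑ a : R, (fE β E) (a * b) *
      conj (χ (a * b))) := by
  refine const_int (f := fE β E) R b hb 0 0 ?_ ?_ hχ
  · intro a ha _
    obtain ⟨i, hi, -⟩ := order_mul hr hR hb hrb ha
    have h4 : 3 ∣ orderOf ((a * b : E) : G) := by
      rw [hi]
      exact Dvd.dvd.mul_left h3 _
    show ((fval β ((a * b : E) : G) : ℤ) : ℂ) = ((0 : ℤ) : ℂ)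
    rw [fval_three h4]
  · show ((fval β (b : G) : ℤ) : ℂ) = _
    rw [fval_three h3]
    simp

end Cfsg.Agent.H853.ThC
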